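import Cfsg.Agent.H962.PP.PwPsl

/-!
# `SL_3(2)`, `SL_3(3)`: every element is a product of two elements of order 7 / 13 (helper98, for S2465)
-/

set_option autoImplicit false
set_option maxRecDepth 100000

namespace Cfsg.Agent.H98.Pw

open Matrix Polynomial
open Cfsg.Agent.H78.Pw
open Cfsg.Agent.H962.PP (LH)

section gen

variable {F : Type*} [Field F]

/-- a nonscalar matrix is similar to one with first row `(0, 1, 0)` -/
theorem exists_first (A : Matrix (Fin 3) (Fin 3) F) (hA : ∀ c : F, A ≠ scalar (Fin 3) c) :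
    ∃ R L : Matrix (Fin 3) (Fin 3) F, IsUnit R.det ∧ R * A = L * R ∧ L 0 0 = 0 ∧ L 0 1 = 1 ∧ L 0 2 = 0 := by
  have H : ∃ R L : Matrix (Fin 3) (Fin 3) F, IsUnit R.det ∧ R * A = L * R ∧ LH L ∧ L 0 1 ≠ 0 :=
    Cfsg.Agent.H962.PP.exists_hess (k := 1) A hA
  obtain ⟨R, L, hR, hRA, hL, h01⟩ := H
  have h02 : L 0 2 = 0 := hL 0 2 (by decide)
  set a := L 0 0 with ha
  set b := L 0 1 with hb
  have hb0 : b ≠ 0 := h01
  let S : Matrix (Fin 3) (Fin 3) F := !![1, 0, 0; a, b, 0; 0, 0, 1]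
  let T : Matrix (Fin 3) (Fin 3) F := !![1, 0, 0; -a * b⁻¹, b⁻¹, 0; 0, 0, 1]
  have hTS : T * S = 1 := by
    ext i j
    fin_cases i <;> fin_cases j <;> simp [S, T, Matrix.mul_apply, Fin.sum_univ_three, hb0, mul_comm]
  have hS : IsUnit S.det := by
    have h1 := congrArg Matrix.det hTS
    rw [det_mul, det_one] at h1
    exact IsUnit.of_mul_eq_one_right _ h1
  have hSL : ∀ j, (S * L) 0 j = L 0 j := fun j => by
    rw [Matrix.mul_apply, Fin.sum_univ_three]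
    simp [S]
  have hr : ∀ j, (S * L * T) 0 j = a * T 0 j + b * T 1 j := fun j => by
    rw [Matrix.mul_apply, Fin.sum_univ_three, hSL, hSL, hSL, h02, zero_mul, add_zero]
  refine ⟨S * R, S * L * T, ?_, ?_, ?_, ?_, ?_⟩
  · rw [det_mul]
    exact hS.mul hR
  · calc S * R * A = S * (L * R) := by rw [mul_assoc, hRA]
      _ = S * L * (T * S) * R := by rw [hTS, mul_one, mul_assoc]
      _ = S * L * T * (S * R) := by simp only [mul_assoc]
  · rw [hr]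
    simp only [T, Matrix.of_apply, Matrix.cons_val', Matrix.cons_val_zero, Matrix.cons_val_one, Matrix.cons_val_fin_one]
    field_simp
    ring
  · rw [hr]
    simp only [T, Matrix.of_apply, Matrix.cons_val', Matrix.cons_val_zero, Matrix.cons_val_one, Matrix.cons_val_fin_one]
    field_simp
    ring
  · rw [hr]
    simp [T]

/-- sum of the principal `2 × 2` minors -/
def s2 (M : Matrix (Fin 3) (Fin 3) F) : F :=
  M 0 0 * M 1 1 + M 0 0 * M 2 2 + M 1 1 * M 2 2 - (M 0 1 * M 1 0 + M 0 2 * M 2 0 + M 1 2 * M 2 1)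

/-- Cayley-Hamilton -/
theorem ch3 (M : Matrix (Fin 3) (Fin 3) F) :
    M * M * M - M.trace • (M * M) + s2 M • M - M.det • (1 : Matrix (Fin 3) (Fin 3) F) = 0 := by
  ext i j
  fin_cases i <;> fin_cases j <;>
    simp [Matrix.mul_apply, Fin.sum_univ_three, Matrix.det_fin_three, Matrix.trace, s2] <;> ring

theorem conj_pow' {P Q M : Matrix (Fin 3) (Fin 3) F} (h : Q * P = 1) (k : ℕ) :
    (P * M * Q) ^ k = P * M ^ k * Q := by
  have hPQ : P * Q = 1 := mul_eq_one_comm.1 h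
  induction k with
  | zero => rw [pow_zero, pow_zero, mul_one, hPQ]
  | succ k ih =>
    rw [pow_succ, ih, pow_succ]
    calc P * M ^ k * Q * (P * M * Q) = P * M ^ k * (Q * P) * M * Q := by simp only [mul_assoc]
      _ = _ := by rw [h]; simp only [mul_assoc, mul_one, one_mul]

end gen

/-- Nat-coded matrices -/
abbrev T9 := ℕ × ℕ × ℕ × ℕ × ℕ × ℕ × ℕ × ℕ × ℕ

def mk9 (q : ℕ) : T9 → Matrix (Fin 3) (Fin 3) (ZMod q)
  | (z0, z1, z2, z3, z4, z5, z6, z7, z8) => !![z0, z1, z2; z3, z4, z5; z6, z7, z8]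

def mkL (q c d e f g h : ℕ) : Matrix (Fin 3) (Fin 3) (ZMod q) := !![0, 1, 0; c, d, e; f, g, h]

/-- trace and second coefficient of `mkL * mk9 z` -/
def ck (q w t s c d e f g h : ℕ) : T9 → Bool
  | (z0, z1, z2, z3, z4, z5, z6, z7, z8) =>
    (z3 + (c * z1 + d * z4 + e * z7) + (f * z2 + g * z5 + h * z8)) % q == t &&
    (z3 * (c * z1 + d * z4 + e * z7) + z3 * (f * z2 + g * z5 + h * z8) +
      (c * z1 + d * z4 + e * z7) * (f * z2 + g * z5 + h * z8) +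
      w * (z4 * (c * z0 + d * z3 + e * z6) + z5 * (f * z0 + g * z3 + h * z6) +
        (c * z2 + d * z5 + e * z8) * (f * z1 + g * z4 + h * z7))) % q == s

theorem cast_eq {q a t : ℕ} (h : a % q = t) : (a : ZMod q) = t := by
  rw [← h, ZMod.natCast_mod]

theorem ck_spec {q w t s c d e f g h : ℕ} [Fact q.Prime] {z : T9} (hw : (w : ZMod q) = -1) (hk : ck q w t s c d e f g h z = true) :
    (mkL q c d e f g h * mk9 q z).trace = t ∧ s2 (mkL q c d e f g h * mk9 q z) = s := by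
  obtain ⟨z0, z1, z2, z3, z4, z5, z6, z7, z8⟩ := z
  simp only [ck, Bool.and_eq_true, beq_iff_eq] at hk
  obtain ⟨h1, h2⟩ := hk
  have h1' := cast_eq h1
  have h2' := cast_eq h2
  push_cast at h1' h2'
  rw [hw] at h2'
  constructor
  · rw [← h1']
    simp [mkL, mk9, Matrix.trace, Fin.sum_univ_three]
    ring
  · rw [← h2']
    simp [mkL, mk9, s2, Matrix.mul_apply, Fin.sum_univ_three]
    ring

def tab2 : List T9 := [(1, 1, 0, 1, 1, 1, 0, 1, 0), (1, 1, 1, 0, 1, 1, 1, 0, 1), (1, 1, 1, 0, 1, 1, 1, 1, 0),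
  (0, 1, 0, 1, 1, 1, 0, 1, 1), (1, 1, 0, 1, 1, 1, 1, 0, 1), (0, 1, 0, 0, 0, 1, 1, 1, 0), (1, 1, 0, 0, 0, 1, 1, 0, 0)]

def tab3 : List T9 := [(0, 2, 2, 2, 1, 2, 1, 2, 0), (2, 2, 1, 0, 1, 2, 1, 1, 1), (0, 0, 2, 0, 2, 1, 2, 1, 2),
  (0, 2, 0, 0, 2, 2, 1, 1, 2), (0, 2, 0, 0, 1, 1, 2, 1, 0), (0, 2, 1, 0, 0, 1, 2, 2, 1), (0, 1, 1, 1, 1, 2, 2, 2, 0),
  (0, 1, 1, 0, 0, 2, 2, 1, 1), (2, 2, 2, 2, 1, 0, 1, 2, 1), (2, 1, 0, 1, 2, 1, 0, 1, 0), (1, 2, 1, 1, 0, 1, 2, 0, 0),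
  (1, 2, 2, 0, 1, 2, 2, 1, 2), (2, 2, 1, 1, 1, 1, 1, 0, 1), (2, 0, 2, 0, 1, 2, 1, 2, 1), (1, 0, 1, 1, 1, 1, 1, 2, 2),
  (2, 0, 1, 1, 2, 0, 2, 2, 0), (1, 1, 1, 1, 2, 1, 0, 2, 1), (1, 1, 0, 1, 2, 1, 2, 2, 1), (2, 0, 1, 1, 2, 1, 0, 2, 0),
  (2, 2, 0, 1, 0, 1, 1, 0, 2)]

def allB (q w t s : ℕ) (tab : List T9) : Bool :=
  (List.range q).all fun c => (List.range q).all fun d => (List.range q).all fun e =>
  (List.range q).all fun f => (List.range q).all fun g => (List.range q).all fun h =>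
    (e * f + w * (c * h)) % q != 1 || tab.any (ck q w t s c d e f g h)

theorem allB_spec {q w t s : ℕ} {tab : List T9} (h : allB q w t s tab = true) {c d e f g k : ℕ} (hc : c < q)
    (hd : d < q) (he : e < q) (hf : f < q) (hg : g < q) (hk : k < q) (h1 : (e * f + w * (c * k)) % q = 1) :
    ∃ z ∈ tab, ck q w t s c d e f g k z = true := by
  simp only [allB, List.all_eq_true, List.mem_range, Bool.or_eq_true, bne_iff_ne, List.any_eq_true] at h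
  rcases h c hc d hd e he f hf g hg k hk with h2 | h2
  · exact absurd h1 h2
  · exact h2

theorem all2 : allB 2 1 0 1 tab2 = true := by decide +kernel

theorem all3 : allB 3 2 0 2 tab3 = true := by decide +kernel

theorem tab2_ok : ∀ z ∈ tab2, (mk9 2 z).det = 1 ∧ (mk9 2 z) * ((mk9 2 z) * (mk9 2 z)) ^ 3 = 1 ∧ mk9 2 z ≠ 1 := by
  decide +kernel

theorem tab3_ok : ∀ z ∈ tab3, (mk9 3 z).det = 1 ∧ (mk9 3 z).trace = 1 ∧ s2 (mk9 3 z) = 2 ∧ mk9 3 z ≠ 1 := by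
  decide +kernel

/-! ### Orders -/

theorem pow_of_dvd {q n : ℕ} [Fact q.Prime] {M : Matrix (Fin 3) (Fin 3) (ZMod q)} {f : (ZMod q)[X]} (hf : aeval M f = 0)
    (hd : f ∣ X ^ n - 1) : M ^ n = 1 := by
  obtain ⟨g, hg⟩ := hd
  have h1 : aeval M (X ^ n - 1 : (ZMod q)[X]) = 0 := by rw [hg, map_mul, hf, zero_mul]
  rwa [map_sub, map_pow, aeval_X, map_one, sub_eq_zero] at h1

instance : Fact (Nat.Prime 2) := ⟨Nat.prime_two⟩

theorem two_poly : (2 : (ZMod 2)[X]) = 0 := by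
  have h : ((2 : ℕ) : (ZMod 2)[X]) = 0 := CharP.cast_eq_zero _ 2
  exact_mod_cast h

theorem three_poly : (3 : (ZMod 3)[X]) = 0 := by
  have h : ((3 : ℕ) : (ZMod 3)[X]) = 0 := CharP.cast_eq_zero _ 3
  exact_mod_cast h

theorem pow_seven {M : Matrix (Fin 3) (Fin 3) (ZMod 2)} (ht : M.trace = 0) (hs : s2 M = 1) (hd : M.det = 1) :
    M ^ 7 = 1 := by
  refine pow_of_dvd (f := X ^ 3 + X - 1) ?_ ?_
  · have h := ch3 M
    rw [ht, hs, hd, zero_smul, one_smul, one_smul, sub_zero] at h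
    rw [map_sub, map_add, map_pow, aeval_X, map_one, pow_succ, pow_two]
    exact h
  · refine ⟨(1) * X ^ 0 + (1) * X ^ 1 + (-1) * X ^ 2 + (1) * X ^ 4, ?_⟩
    linear_combination ((-1) * X ^ 2) * two_poly

theorem pow_thirteen {M : Matrix (Fin 3) (Fin 3) (ZMod 3)} (ht : M.trace = 0) (hs : s2 M = 2) (hd : M.det = 1) :
    M ^ 13 = 1 := by
  refine pow_of_dvd (f := X ^ 3 + 2 * X - 1) ?_ ?_
  · have h := ch3 M
    rw [ht, hs, hd, zero_smul, one_smul, sub_zero] at h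
    rw [map_sub, map_add, map_mul, map_pow, aeval_X, map_one, pow_succ, pow_two, map_ofNat]
    rw [two_smul] at h
    rw [two_mul]
    exact h
  · refine ⟨(-8) * X ^ 0 + (-31) * X ^ 1 + (10) * X ^ 2 + (12) * X ^ 3 + (-7) * X ^ 4 + (-4) * X ^ 5 + (4) * X ^ 6 + (1) * X ^ 7 + (-2) * X ^ 8 + (1) * X ^ 10, ?_⟩
    linear_combination ((-3) * X ^ 0 + (-5) * X ^ 1 + (24) * X ^ 2) * three_poly

theorem pow_thirteen' {M : Matrix (Fin 3) (Fin 3) (ZMod 3)} (ht : M.trace = 1) (hs : s2 M = 2) (hd : M.det = 1) :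
    M ^ 13 = 1 := by
  refine pow_of_dvd (f := X ^ 3 - X ^ 2 + 2 * X - 1) ?_ ?_
  · have h := ch3 M
    rw [ht, hs, hd, one_smul, one_smul] at h
    rw [map_sub, map_add, map_sub, map_mul, map_pow, map_pow, aeval_X, map_one, pow_succ, pow_two, map_ofNat]
    rw [two_smul] at h
    rw [two_mul]
    exact h
  · refine ⟨(10) * X ^ 0 + (11) * X ^ 1 + (-3) * X ^ 2 + (-7) * X ^ 3 + (4) * X ^ 5 + (1) * X ^ 6 + (-2) * X ^ 7 + (-1) * X ^ 8 + (1) * X ^ 9 + (1) * X ^ 10, ?_⟩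
    linear_combination ((3) * X ^ 0 + (-3) * X ^ 1 + (-5) * X ^ 2) * three_poly

/-! ### Matrices -/

theorem mkL_eq {q : ℕ} [Fact q.Prime] {L : Matrix (Fin 3) (Fin 3) (ZMod q)} (h0 : L 0 0 = 0) (h1 : L 0 1 = 1) (h2 : L 0 2 = 0) :
    L = mkL q (L 1 0).val (L 1 1).val (L 1 2).val (L 2 0).val (L 2 1).val (L 2 2).val := by
  ext i j
  fin_cases i <;> fin_cases j <;> simp [mkL, h0, h1, h2]

/-- from the table -/
theorem exists_of_tab {q w t s : ℕ} [Fact q.Prime] {tab : List T9} (hw : (w : ZMod q) = -1)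
    (hB : allB q w t s tab = true) {L : Matrix (Fin 3) (Fin 3) (ZMod q)} (h0 : L 0 0 = 0) (h1 : L 0 1 = 1) (h2 : L 0 2 = 0)
    (hd : L.det = 1) : ∃ z ∈ tab, (L * mk9 q z).trace = t ∧ s2 (L * mk9 q z) = s := by
  have hL := mkL_eq h0 h1 h2
  have h3 : ((L 1 2).val * (L 2 0).val + w * ((L 1 0).val * (L 2 2).val)) % q = 1 := by
    have h4 : (((L 1 2).val * (L 2 0).val + w * ((L 1 0).val * (L 2 2).val) : ℕ) : ZMod q) = ((1 : ℕ) : ZMod q) := by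
      push_cast
      rw [hw]
      simp only [ZMod.natCast_val, ZMod.cast_id', id_eq]
      have hd' := hd
      rw [Matrix.det_fin_three, h0, h1, h2] at hd'
      linear_combination hd'
    have h5 := (ZMod.natCast_eq_natCast_iff' _ _ q).1 h4
    rw [h5, Nat.mod_eq_of_lt (Fact.out : q.Prime).one_lt]
  obtain ⟨z, hz, hk⟩ := allB_spec hB (ZMod.val_lt _) (ZMod.val_lt (L 1 1)) (ZMod.val_lt _) (ZMod.val_lt _)
    (ZMod.val_lt (L 2 1)) (ZMod.val_lt _) h3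
  refine ⟨z, hz, ?_⟩
  have h6 := ck_spec hw hk
  rwa [← hL] at h6

/-- **`SL_3(q)`, `q = 2, 3`, matrix form, nonscalar** -/
theorem mat_of {q w t s n : ℕ} [Fact q.Prime] {tab : List T9} (hw : (w : ZMod q) = -1)
    (hB : allB q w t s tab = true) (hn : 0 < n)
    (hX : ∀ M : Matrix (Fin 3) (Fin 3) (ZMod q), M.trace = t → s2 M = s → M.det = 1 → M ^ n = 1 ∧ M ≠ 1)
    (hZ : ∀ z ∈ tab, (mk9 q z).det = 1 ∧ (mk9 q z) ^ n = 1 ∧ mk9 q z ≠ 1)
    {A : Matrix (Fin 3) (Fin 3) (ZMod q)} (hA : ∀ c : ZMod q, A ≠ scalar (Fin 3) c) (hd : A.det = 1) :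
    ∃ x y : Matrix (Fin 3) (Fin 3) (ZMod q), A = x * y ∧ x ^ n = 1 ∧ y ^ n = 1 ∧ x.det = 1 ∧ y.det = 1 ∧ x ≠ 1 ∧ y ≠ 1 := by
  obtain ⟨R, L, hR, hRA, h0, h1, h2⟩ := exists_first A hA
  have hRR : R⁻¹ * R = 1 := Matrix.nonsing_inv_mul _ hR
  have hRR' : R * R⁻¹ = 1 := Matrix.mul_nonsing_inv _ hR
  have hAe : A = R⁻¹ * L * R := by
    calc A = R⁻¹ * R * A := by rw [hRR, one_mul]
      _ = _ := by rw [mul_assoc, hRA, ← mul_assoc]
  have hc : ∀ M : Matrix (Fin 3) (Fin 3) (ZMod q), (R⁻¹ * M * R).det = M.det := by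
    intro M
    have h3 := congrArg Matrix.det hRR
    rw [det_mul, det_one] at h3
    rw [det_mul, det_mul]
    calc R⁻¹.det * M.det * R.det = (R⁻¹.det * R.det) * M.det := by ring
      _ = M.det := by rw [h3, one_mul]
  have hne : ∀ M : Matrix (Fin 3) (Fin 3) (ZMod q), M ≠ 1 → R⁻¹ * M * R ≠ 1 := by
    intro M hM h3
    apply hM
    calc M = (R * R⁻¹) * M * (R * R⁻¹) := by rw [hRR', one_mul, mul_one]
      _ = R * (R⁻¹ * M * R) * R⁻¹ := by simp only [mul_assoc]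
      _ = 1 := by rw [h3, mul_one, hRR']
  have hLd : L.det = 1 := by rw [← hc L, ← hAe, hd]
  obtain ⟨z, hz, ht, hs⟩ := exists_of_tab hw hB h0 h1 h2 hLd
  obtain ⟨hzd, hzn, hz1⟩ := hZ z hz
  set Z := mk9 q z with hZd
  obtain ⟨hXn, hX1⟩ := hX (L * Z) ht hs (by rw [det_mul, hLd, hzd, one_mul])
  have hZZ : Z * Z ^ (n - 1) = 1 := by
    rw [← pow_succ', Nat.sub_add_cancel hn, hzn]
  have hZ1 : Z ^ (n - 1) ≠ 1 := by
    intro h3
    rw [h3, mul_one] at hZZ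
    exact hz1 hZZ
  refine ⟨R⁻¹ * (L * Z) * R, R⁻¹ * Z ^ (n - 1) * R, ?_, ?_, ?_, ?_, ?_, hne _ hX1, hne _ hZ1⟩
  · rw [hAe]
    calc R⁻¹ * L * R = R⁻¹ * (L * (Z * Z ^ (n - 1))) * R := by rw [hZZ, mul_one]
      _ = R⁻¹ * (L * Z) * (1 * Z ^ (n - 1)) * R := by rw [one_mul]; simp only [mul_assoc]
      _ = R⁻¹ * (L * Z) * ((R * R⁻¹) * Z ^ (n - 1)) * R := by rw [hRR']
      _ = _ := by simp only [mul_assoc]
  · rw [conj_pow' hRR', hXn, mul_one, hRR]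
  · rw [conj_pow' hRR', ← pow_mul, mul_comm, pow_mul, hzn, one_pow, mul_one, hRR]
  · rw [hc, det_mul, hLd, hzd, one_mul]
  · rw [hc, det_pow, hzd, one_pow]

/-- the scalar matrices of `SL_3(q)`, `q = 2, 3` -/
theorem scalar_one2 (c : ZMod 2) (h : c ^ 3 = 1) : c = 1 := by revert c; decide

theorem scalar_one3 (c : ZMod 3) (h : c ^ 3 = 1) : c = 1 := by revert c; decide

theorem tab2_pow : ∀ z ∈ tab2, (mk9 2 z).det = 1 ∧ (mk9 2 z) ^ 7 = 1 ∧ mk9 2 z ≠ 1 := by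
  intro z hz
  obtain ⟨h1, h2, h3⟩ := tab2_ok z hz
  refine ⟨h1, ?_, h3⟩
  rw [← h2, ← pow_two, ← pow_mul, ← pow_succ']

theorem tab3_pow : ∀ z ∈ tab3, (mk9 3 z).det = 1 ∧ (mk9 3 z) ^ 13 = 1 ∧ mk9 3 z ≠ 1 := by
  intro z hz
  obtain ⟨h1, h2, h3, h4⟩ := tab3_ok z hz
  exact ⟨h1, pow_thirteen' h2 h3 h1, h4⟩

/-- all matrices of determinant 1 -/
theorem mat_all {q w t s n : ℕ} [Fact q.Prime] {tab : List T9} (hw : (w : ZMod q) = -1)
    (hB : allB q w t s tab = true) (hn : 0 < n) (hsc : ∀ c : ZMod q, c ^ 3 = 1 → c = 1)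
    (hX : ∀ M : Matrix (Fin 3) (Fin 3) (ZMod q), M.trace = t → s2 M = s → M.det = 1 → M ^ n = 1 ∧ M ≠ 1)
    (hZ : ∀ z ∈ tab, (mk9 q z).det = 1 ∧ (mk9 q z) ^ n = 1 ∧ mk9 q z ≠ 1) (hne : tab ≠ [])
    (A : Matrix (Fin 3) (Fin 3) (ZMod q)) (hd : A.det = 1) :
    ∃ x y : Matrix (Fin 3) (Fin 3) (ZMod q), A = x * y ∧ x ^ n = 1 ∧ y ^ n = 1 ∧ x.det = 1 ∧ y.det = 1 ∧ x ≠ 1 ∧ y ≠ 1 := by
  by_cases hA : ∀ c : ZMod q, A ≠ scalar (Fin 3) c
  · exact mat_of hw hB hn hX hZ hA hd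
  · push Not at hA
    obtain ⟨c, rfl⟩ := hA
    have h1 : c ^ 3 = 1 := by
      rw [scalar_apply, det_diagonal, Finset.prod_const, Finset.card_univ, Fintype.card_fin] at hd
      exact hd
    rw [hsc c h1, map_one]
    obtain ⟨z, hz⟩ := List.exists_mem_of_ne_nil tab hne
    obtain ⟨hzd, hzn, hz1⟩ := hZ z hz
    have hZZ : mk9 q z * mk9 q z ^ (n - 1) = 1 := by
      rw [← pow_succ', Nat.sub_add_cancel hn, hzn]
    refine ⟨mk9 q z, mk9 q z ^ (n - 1), hZZ.symm, hzn, ?_, hzd, ?_, hz1, ?_⟩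
    · rw [← pow_mul, mul_comm, pow_mul, hzn, one_pow]
    · rw [det_pow, hzd, one_pow]
    · intro h3
      rw [h3, mul_one] at hZZ
      exact hz1 hZZ

/-- **`SL_3(2)`**: every matrix of determinant 1 is a product of two matrices of order 7. -/
theorem mat_two (A : Matrix (Fin 3) (Fin 3) (ZMod 2)) (hd : A.det = 1) :
    ∃ x y : Matrix (Fin 3) (Fin 3) (ZMod 2), A = x * y ∧ x ^ 7 = 1 ∧ y ^ 7 = 1 ∧ x.det = 1 ∧ y.det = 1 ∧ x ≠ 1 ∧ y ≠ 1 := by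
  refine mat_all (t := 0) (s := 1) (w := 1) (by decide) all2 (by norm_num) scalar_one2 ?_ tab2_pow (by decide) A hd
  intro M ht hs hd
  rw [Nat.cast_zero] at ht
  rw [Nat.cast_one] at hs
  refine ⟨pow_seven ht hs hd, ?_⟩
  rintro rfl
  exact absurd ht (by decide)

/-- **`SL_3(3)`**: every matrix of determinant 1 is a product of two matrices of order 13. -/
theorem mat_three (A : Matrix (Fin 3) (Fin 3) (ZMod 3)) (hd : A.det = 1) :
    ∃ x y : Matrix (Fin 3) (Fin 3) (ZMod 3), A = x * y ∧ x ^ 13 = 1 ∧ y ^ 13 = 1 ∧ x.det = 1 ∧ y.det = 1 ∧ x ≠ 1 ∧ y ≠ 1 := by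
  refine mat_all (t := 0) (s := 2) (w := 2) (by decide) all3 (by norm_num) scalar_one3 ?_ tab3_pow (by decide) A hd
  intro M ht hs hd
  rw [Nat.cast_zero] at ht
  have hs' : s2 M = 2 := by rw [hs]; rfl
  refine ⟨pow_thirteen ht hs' hd, ?_⟩
  rintro rfl
  exact absurd hs' (by decide)

/-! ### The groups -/

/-- special linear form over `ZMod q` -/
theorem sl_of {q n : ℕ} [Fact q.Prime]
    (h : ∀ A : Matrix (Fin 3) (Fin 3) (ZMod q), A.det = 1 → ∃ x y : Matrix (Fin 3) (Fin 3) (ZMod q), A = x * y ∧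
      x ^ n = 1 ∧ y ^ n = 1 ∧ x.det = 1 ∧ y.det = 1 ∧ x ≠ 1 ∧ y ≠ 1) (A : SpecialLinearGroup (Fin 3) (ZMod q)) :
    ∃ x y : SpecialLinearGroup (Fin 3) (ZMod q), A = x * y ∧ x ^ n = 1 ∧ y ^ n = 1 ∧ x ≠ 1 ∧ y ≠ 1 := by
  obtain ⟨x, y, h1, hx, hy, hxd, hyd, hx1, hy1⟩ := h A A.det_coe
  refine ⟨⟨x, hxd⟩, ⟨y, hyd⟩, Subtype.ext h1, Subtype.ext ?_, Subtype.ext ?_, ?_, ?_⟩
  · exact (Matrix.SpecialLinearGroup.coe_pow _ n).trans (hx.trans Matrix.SpecialLinearGroup.coe_one.symm)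
  · exact (Matrix.SpecialLinearGroup.coe_pow _ n).trans (hy.trans Matrix.SpecialLinearGroup.coe_one.symm)
  · intro h2
    exact hx1 ((congrArg Subtype.val h2).trans Matrix.SpecialLinearGroup.coe_one)
  · intro h2
    exact hy1 ((congrArg Subtype.val h2).trans Matrix.SpecialLinearGroup.coe_one)

/-- special linear form over any field of `q` elements -/
theorem sl_of' {q n : ℕ} [Fact q.Prime]
    (h : ∀ A : Matrix (Fin 3) (Fin 3) (ZMod q), A.det = 1 → ∃ x y : Matrix (Fin 3) (Fin 3) (ZMod q), A = x * y ∧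
      x ^ n = 1 ∧ y ^ n = 1 ∧ x.det = 1 ∧ y.det = 1 ∧ x ≠ 1 ∧ y ≠ 1) (F : Type*) [Field F] [Finite F] (hF : Nat.card F = q)
    (A : SpecialLinearGroup (Fin 3) F) :
    ∃ x y : SpecialLinearGroup (Fin 3) F, A = x * y ∧ x ^ n = 1 ∧ y ^ n = 1 ∧ x ≠ 1 ∧ y ≠ 1 := by
  have : Fintype F := Fintype.ofFinite F
  let e : ZMod q ≃+* F := ZMod.ringEquivOfPrime F Fact.out (by rw [← Nat.card_eq_fintype_card, hF])
  let f := SpecialLinearGroup.map (n := Fin 3) (e : ZMod q →+* F)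
  let g := SpecialLinearGroup.map (n := Fin 3) (e.symm : F →+* ZMod q)
  have hfg : ∀ B, f (g B) = B := by
    intro B
    ext i j
    simp [f, g]
  have hgf : ∀ B, g (f B) = B := by
    intro B
    ext i j
    simp [f, g]
  obtain ⟨x, y, h1, hx, hy, hx1, hy1⟩ := sl_of h (g A)
  refine ⟨f x, f y, ?_, ?_, ?_, ?_, ?_⟩
  · rw [← map_mul, ← h1, hfg]
  · rw [← map_pow, hx, map_one]
  · rw [← map_pow, hy, map_one]
  · intro h2
    apply hx1
    rw [← hgf x, h2, map_one]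
  · intro h2
    apply hy1
    rw [← hgf y, h2, map_one]

/-- **`SL_3(2)`** -/
theorem sl_two {F : Type*} [Field F] [Finite F] (hF : Nat.card F = 2) (A : SpecialLinearGroup (Fin 3) F) :
    ∃ x y : SpecialLinearGroup (Fin 3) F, A = x * y ∧ x ^ 7 = 1 ∧ y ^ 7 = 1 ∧ x ≠ 1 ∧ y ≠ 1 :=
  sl_of' mat_two F hF A

/-- **`SL_3(3)`** -/
theorem sl_three {F : Type*} [Field F] [Finite F] (hF : Nat.card F = 3) (A : SpecialLinearGroup (Fin 3) F) :
    ∃ x y : SpecialLinearGroup (Fin 3) F, A = x * y ∧ x ^ 13 = 1 ∧ y ^ 13 = 1 ∧ x ≠ 1 ∧ y ≠ 1 :=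
  sl_of' mat_three F hF A

theorem all_six {G : Type*} [Group G] {n : ℕ} (hn : n.Coprime 6)
    (h : ∀ A : G, ∃ x y : G, A = x * y ∧ x ^ n = 1 ∧ y ^ n = 1 ∧ x ≠ 1 ∧ y ≠ 1) : All 6 G := by
  intro g
  obtain ⟨x, y, h1, hx, hy, -, -⟩ := h g
  exact ⟨x, y, h1, Nat.Coprime.of_dvd_left (orderOf_dvd_of_pow_eq_one hx) hn,
    Nat.Coprime.of_dvd_left (orderOf_dvd_of_pow_eq_one hy) hn⟩

theorem all6_sl_three {F : Type*} [Field F] [Finite F] (hF : Nat.card F = 2 ∨ Nat.card F = 3) :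
    All 6 (SpecialLinearGroup (Fin 3) F) := by
  rcases hF with hF | hF
  · exact all_six (by decide) (sl_two hF)
  · exact all_six (by decide) (sl_three hF)

theorem all6_psl_three {F : Type*} [Field F] [Finite F] (hF : Nat.card F = 2 ∨ Nat.card F = 3) :
    All 6 (ProjectiveSpecialLinearGroup (Fin 3) F) :=
  (all6_sl_three hF).of_surjective (QuotientGroup.mk' (Subgroup.center (SpecialLinearGroup (Fin 3) F)))
    (QuotientGroup.mk'_surjective _)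

/-- **`PSL_3(F)`, all finite fields.** -/
theorem pw_psl_three (F : Type*) [Field F] [Finite F] : Pw (ProjectiveSpecialLinearGroup (Fin 3) F) := by
  by_cases h2 : Nat.card F = 2
  · exact ⟨all6_psl_three (Or.inl h2), fun _ hp h5 => Cfsg.Agent.H962.PP.allp_psl le_rfl hp h5⟩
  · by_cases h3 : Nat.card F = 3
    · exact ⟨all6_psl_three (Or.inr h3), fun _ hp h5 => Cfsg.Agent.H962.PP.allp_psl le_rfl hp h5⟩
    · exact Cfsg.Agent.H962.PP.pw_psl_three F h2 h3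

end Cfsg.Agent.H98.Pw
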