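import Mathlib

/-!
# Thompson's A × B lemma for fixed points, linear form (helper98)

`card_fix_lt` : `s` of order prime to `p`, `u` of `p`-power order, commuting linear maps of a finite `F_p`-space `V`, `s ≠ 1`:
`p |C_V(s u)| ≤ |C_V(u)|`.
-/

set_option autoImplicit false

namespace Cfsg.Agent.H98.Pw

open Module

variable {p : ℕ} [Fact p.Prime] {V : Type*} [AddCommGroup V] [Module (ZMod p) V]

/-- if `u` has `p`-power order then it has a nonzero fixed vector on every nonzero invariant submodule -/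
theorem exists_fix {u : V →ₗ[ZMod p] V} {k : ℕ} (hu : u ^ p ^ k = 1) {N : Submodule (ZMod p) V}
    (hN : ∀ x ∈ N, u x ∈ N) {w : V} (hw : w ∈ N) (h0 : w ≠ 0) : ∃ x ∈ N, x ≠ 0 ∧ u x = x := by
  set n : V →ₗ[ZMod p] V := u - 1 with hn
  have hnil : n ^ p ^ k = 0 := by
    have h1 : (u - 1) ^ p ^ k = u ^ p ^ k - 1 ^ p ^ k := by
      have : CharP (Module.End (ZMod p) V) p ∨ Subsingleton (Module.End (ZMod p) V) := by
        by_cases hs : Subsingleton (Module.End (ZMod p) V)
        · exact Or.inr hs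
        · left
          have : Nontrivial (Module.End (ZMod p) V) := not_subsingleton_iff_nontrivial.1 hs
          exact charP_of_injective_algebraMap (algebraMap (ZMod p) (Module.End (ZMod p) V)).injective p
      rcases this with h | h
      · exact sub_pow_char_pow_of_commute p k (Commute.one_right u)
      · exact Subsingleton.elim _ _
    rw [hn, h1, hu, one_pow, sub_self]
  have hnN : ∀ x ∈ N, n x ∈ N := fun x hx => N.sub_mem (hN x hx) hx
  have hex : ∃ j, (n ^ j) w = 0 := ⟨p ^ k, by rw [hnil]; rfl⟩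
  classical
  set j := Nat.find hex with hj
  have hjs := Nat.find_spec hex
  rw [← hj] at hjs
  have hj0 : j ≠ 0 := by
    intro h
    rw [h, pow_zero] at hjs
    exact h0 hjs
  obtain ⟨i, hi⟩ := Nat.exists_eq_succ_of_ne_zero hj0
  have hmem : ∀ i, (n ^ i) w ∈ N := by
    intro i
    induction i with
    | zero => exact hw
    | succ i ih => rw [pow_succ']; exact hnN _ ih
  refine ⟨(n ^ i) w, hmem i, Nat.find_min hex (by rw [← hj]; omega), ?_⟩
  rw [hi, pow_succ'] at hjs
  have h2 : n ((n ^ i) w) = 0 := hjs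
  rw [hn, LinearMap.sub_apply] at h2
  exact sub_eq_zero.1 h2

/-- **A × B** : if every fixed vector of `u` is fixed by `s`, then `s = 1` -/
theorem axb {s u : V →ₗ[ZMod p] V} {k m : ℕ} (hs : s ^ m = 1) (hm : m.Coprime p) (hu : u ^ p ^ k = 1)
    (hc : ∀ x, s (u x) = u (s x)) (h : ∀ x, u x = x → s x = x) (x : V) : s x = x := by
  have hcp : ∀ (i : ℕ) (x : V), (s ^ i) (u x) = u ((s ^ i) x) := by
    intro i
    induction i with
    | zero => intro x; rfl
    | succ i ih =>
      intro x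
      rw [pow_succ]
      show (s ^ i) (s (u x)) = u ((s ^ i) (s x))
      rw [hc, ih]
  let π : V →ₗ[ZMod p] V := ∑ i ∈ Finset.range m, s ^ i
  have hπa : ∀ x, π x = ∑ i ∈ Finset.range m, (s ^ i) x := fun x => LinearMap.sum_apply _ _ _
  have hπu : ∀ x, π (u x) = u (π x) := by
    intro x
    rw [hπa, hπa, map_sum]
    exact Finset.sum_congr rfl fun i _ => hcp i x
  have hsπ : ∀ x, s (π x) = π x := by
    intro x
    rw [hπa, map_sum]
    have h1 : ∀ i, s ((s ^ i) x) = (s ^ (i + 1)) x := fun i => by rw [pow_succ']; rfl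
    simp only [h1]
    have h2 := Finset.sum_range_succ' (fun i => (s ^ i) x) m
    have h3 := Finset.sum_range_succ (fun i => (s ^ i) x) m
    rw [hs] at h3
    rw [h3] at h2
    have h4 : (1 : V →ₗ[ZMod p] V) x = (s ^ 0) x := by rw [pow_zero]
    rw [h4] at h2
    exact (add_right_cancel h2).symm
  have hmz : ((m : ℕ) : ZMod p) ≠ 0 := by
    rw [Ne, ZMod.natCast_eq_zero_iff]
    intro h1
    exact ((Fact.out : p.Prime).coprime_iff_not_dvd.1 hm.symm) h1
  have hfix : ∀ x, s x = x → π x = (m : ZMod p) • x := by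
    intro x hx
    rw [hπa]
    have h1 : ∀ i, (s ^ i) x = x := by
      intro i
      induction i with
      | zero => rfl
      | succ i ih => rw [pow_succ']; show s ((s ^ i) x) = x; rw [ih, hx]
    simp only [h1, Finset.sum_const, Finset.card_range]
    rw [Nat.cast_smul_eq_nsmul]
  -- `N = ker π`
  by_contra hne
  set w := (m : ZMod p) • x - π x with hw
  have hwN : w ∈ LinearMap.ker π := by
    rw [LinearMap.mem_ker, hw, map_sub, map_smul, hfix (π x) (hsπ x), sub_self]
  have hw0 : w ≠ 0 := by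
    intro h0
    apply hne
    have h1 : (m : ZMod p) • x = π x := sub_eq_zero.1 h0
    have h2 : x = (m : ZMod p)⁻¹ • π x := by rw [← h1, smul_smul, inv_mul_cancel₀ hmz, one_smul]
    rw [h2, map_smul, hsπ]
  obtain ⟨y, hy, hy0, hyu⟩ := exists_fix hu (N := LinearMap.ker π)
    (fun x hx => by rw [LinearMap.mem_ker, hπu, LinearMap.mem_ker.1 hx, map_zero]) hwN hw0
  have h1 := hfix y (h y hyu)
  rw [LinearMap.mem_ker.1 hy] at h1
  rcases smul_eq_zero.1 h1.symm with h2 | h2
  · exact hmz h2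
  · exact hy0 h2

/-- if moreover `s ≠ 1`, then `p |C_V(s) ∩ C_V(u)| ≤ |C_V(u)|` -/
theorem finrank_fix_lt [FiniteDimensional (ZMod p) V] {s u : V →ₗ[ZMod p] V} {k m : ℕ} (hs : s ^ m = 1)
    (hm : m.Coprime p) (hu : u ^ p ^ k = 1) (hc : ∀ x, s (u x) = u (s x)) (h1 : ∃ x, s x ≠ x)
    {C D : Submodule (ZMod p) V} (hC : ∀ x, x ∈ C ↔ s x = x ∧ u x = x) (hD : ∀ x, x ∈ D ↔ u x = x) :
    finrank (ZMod p) C < finrank (ZMod p) D := by
  apply Submodule.finrank_lt_finrank_of_lt
  refine lt_of_le_of_ne (fun x hx => (hD x).2 ((hC x).1 hx).2) ?_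
  rintro rfl
  obtain ⟨x, hx⟩ := h1
  exact hx (axb hs hm hu hc (fun y hy => ((hC y).1 ((hD y).2 hy)).1) x)

end Cfsg.Agent.H98.Pw
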