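import Mathlib

/-!
# Elements of 2-power order of `Sp₆(3)` without eigenvalue `±1` (helper98, for S2465, F₄(3))

`sp_two` : `V` of dimension 6 over `ZMod 3`, `l` of 2-power order preserving a nondegenerate bilinear form, without
eigenvalue `±1`: `l² = -1`, or at most 729 endomorphisms commute with `l`.
`card_comm_neg` : if `l² = -1` : at most `729 ^ 3` endomorphisms commute with `l`.
-/

set_option autoImplicit false

namespace Cfsg.Agent.H98.Pw

open Module Polynomial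

universe v

/-- semiregular permutations -/
theorem card_dvd_free {X : Type v} [Finite X] (σ : Equiv.Perm X) (n h : ℕ) (hn : 0 < n) (hn1 : σ ^ n = 1)
    (hfree : ∀ x, (σ ^ h) x ≠ x) (hb : ∀ i < n, i ≠ 0 → ∃ b < n, b * i % n = h) : n ∣ Nat.card X := by
  rcases isEmpty_or_nonempty X with hX | ⟨⟨x0⟩⟩
  · simp
  have hmod : ∀ k : ℕ, σ ^ (k % n) = σ ^ k := by
    intro k
    conv_rhs => rw [← Nat.mod_add_div k n, pow_add, pow_mul, hn1, one_pow, mul_one]
  have hord : orderOf σ = n := by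
    have h1 : orderOf σ ∣ n := orderOf_dvd_of_pow_eq_one hn1
    have h0 : 0 < orderOf σ := Nat.pos_of_dvd_of_pos h1 hn
    rcases (Nat.le_of_dvd hn h1).lt_or_eq with h2 | h2
    · exfalso
      obtain ⟨b, -, hb2⟩ := hb _ h2 h0.ne'
      apply hfree x0
      rw [← hb2, hmod, mul_comm, pow_mul, pow_orderOf_eq_one, one_pow]
      rfl
    · exact h2
  have hst : ∀ x : X, MulAction.stabilizer (Subgroup.zpowers σ) x = ⊥ := by
    intro x
    rw [Subgroup.eq_bot_iff_forall]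
    rintro ⟨τ, hτ⟩ h1
    rw [MulAction.mem_stabilizer_iff] at h1
    have h2 : τ x = x := h1
    obtain ⟨i, rfl⟩ : ∃ i : ℕ, σ ^ i = τ := by
      have hfo : IsOfFinOrder σ := isOfFinOrder_iff_pow_eq_one.2 ⟨n, hn, hn1⟩
      exact (hfo.mem_powers_iff_mem_zpowers.2 hτ)
    by_cases hi : i % n = 0
    · apply Subtype.ext
      show σ ^ i = 1
      rw [← hmod, hi, pow_zero]
    · exfalso
      obtain ⟨b, -, hb2⟩ := hb _ (Nat.mod_lt i hn) hi
      apply hfree x
      rw [← hb2, hmod, mul_comm, pow_mul, hmod]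
      clear hb2
      induction b with
      | zero => simp
      | succ b ih => rw [pow_succ, Equiv.Perm.mul_apply, h2, ih]
  have e := MulAction.selfEquivOrbitsQuotientProd hst
  rw [Nat.card_congr e, Nat.card_prod, Nat.card_zpowers, hord]
  exact Dvd.intro_left _ rfl

variable {V : Type v} [AddCommGroup V] [Module (ZMod 3) V]

/-- semiregular action on the kernel -/
theorem dvd_ker [Finite V] (l : V →ₗ[ZMod 3] V) (n h : ℕ) (hn : 0 < n) (hn1 : l ^ n = 1)
    (W : Submodule (ZMod 3) V) (hW : ∀ w ∈ W, l w ∈ W) (hneg : ∀ w ∈ W, (l ^ h) w = -w)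
    (hb : ∀ i < n, i ≠ 0 → ∃ b < n, b * i % n = h) : n ∣ Nat.card W - 1 := by
  have hinj : Function.Injective l := by
    intro x y hxy
    have h1 : (l ^ n) x = (l ^ n) y := by
      obtain ⟨m, rfl⟩ := Nat.exists_eq_succ_of_ne_zero hn.ne'
      rw [pow_succ, Module.End.mul_apply, Module.End.mul_apply, hxy]
    rwa [hn1] at h1
  let X := {w : W // w ≠ 0}
  let φ : X → X := fun x => ⟨⟨l x.1.1, hW _ x.1.2⟩, fun h0 => x.2 (Subtype.ext (hinj (by
    show l x.1.1 = l (0 : V)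
    rw [map_zero]
    exact congrArg Subtype.val h0)))⟩
  have hφ : Function.Injective φ := by
    rintro ⟨⟨x, hx⟩, hx0⟩ ⟨⟨y, hy⟩, hy0⟩ h1
    have h2 : l x = l y := congrArg (fun t : X => t.1.1) h1
    exact Subtype.ext (Subtype.ext (hinj h2))
  let σ : Equiv.Perm X := Equiv.ofBijective φ (Finite.injective_iff_bijective.1 hφ)
  have hpow : ∀ (k : ℕ) (x : X), ((σ ^ k) x).1.1 = (l ^ k) x.1.1 := by
    intro k
    induction k with
    | zero => intro x; rfl
    | succ k ih =>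
      intro x
      rw [pow_succ', pow_succ', Equiv.Perm.mul_apply, Module.End.mul_apply, ← ih]
      rfl
  have hX : n ∣ Nat.card X := by
    refine card_dvd_free σ n h hn ?_ ?_ hb
    · ext x
      rw [hpow, hn1]
      rfl
    · intro x hx
      apply x.2
      have h1 := hpow h x
      rw [hx, hneg _ x.1.2] at h1
      have h2 : (x.1.1 : V) + x.1.1 = 0 := by
        nth_rewrite 1 [h1]
        exact neg_add_cancel _
      have h3 : (x.1.1 : V) + x.1.1 + x.1.1 = 0 := by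
        have : (3 : ZMod 3) • (x.1.1 : V) = 0 := by
          have e : (3 : ZMod 3) = 0 := by decide
          rw [e, zero_smul]
        have e2 : (3 : ZMod 3) • (x.1.1 : V) = x.1.1 + x.1.1 + x.1.1 := by
          have e3 : (3 : ZMod 3) = 1 + 1 + 1 := by decide
          rw [e3, add_smul, add_smul, one_smul]
        rw [← e2, this]
      rw [h2, zero_add] at h3
      exact Subtype.ext h3
  have hc : Nat.card X = Nat.card W - 1 := by
    have h1 : Nat.card X = Nat.card ({0}ᶜ : Set W) := rfl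
    rw [h1, Nat.card_coe_set_eq, Set.ncard_compl, Set.ncard_singleton]
  rw [← hc]
  exact hX

/-! ### kernels of polynomials -/

/-- `ker P(l)` -/
noncomputable def kp (l : V →ₗ[ZMod 3] V) (P : (ZMod 3)[X]) : Submodule (ZMod 3) V := LinearMap.ker (aeval l P)

theorem mem_kp {l : V →ₗ[ZMod 3] V} {P : (ZMod 3)[X]} {v : V} : v ∈ kp l P ↔ aeval l P v = 0 := LinearMap.mem_ker

theorem aeval_mul_apply (l : V →ₗ[ZMod 3] V) (P Q : (ZMod 3)[X]) (v : V) :
    aeval l (P * Q) v = aeval l P (aeval l Q v) := by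
  rw [map_mul, Module.End.mul_apply]

theorem aeval_add_apply (l : V →ₗ[ZMod 3] V) (P Q : (ZMod 3)[X]) (v : V) :
    aeval l (P + Q) v = aeval l P v + aeval l Q v := by
  rw [map_add, LinearMap.add_apply]

theorem kp_stable (l : V →ₗ[ZMod 3] V) (P : (ZMod 3)[X]) {v : V} (hv : v ∈ kp l P) : l v ∈ kp l P := by
  rw [mem_kp] at hv ⊢
  have h1 : aeval l (P * X) v = aeval l P (l v) := by rw [aeval_mul_apply, aeval_X]
  rw [← h1, mul_comm, aeval_mul_apply, hv, map_zero]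

theorem kp_mul (l : V →ₗ[ZMod 3] V) {P Q : (ZMod 3)[X]} {v : V} (hv : v ∈ kp l P) : v ∈ kp l (Q * P) := by
  rw [mem_kp] at hv ⊢
  rw [aeval_mul_apply, hv, map_zero]

theorem kp_disj (l : V →ₗ[ZMod 3] V) {P Q : (ZMod 3)[X]} (h : IsCoprime P Q) {v : V} (hP : v ∈ kp l P)
    (hQ : v ∈ kp l Q) : v = 0 := by
  obtain ⟨a, b, hab⟩ := h
  rw [mem_kp] at hP hQ
  have h1 : aeval l (a * P + b * Q) v = v := by rw [hab, map_one]; rfl
  rw [aeval_add_apply, aeval_mul_apply, aeval_mul_apply, hP, hQ, map_zero, map_zero, add_zero] at h1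
  exact h1.symm

/-- duality -/
theorem kp_le [Finite V] (ω : V →ₗ[ZMod 3] V →ₗ[ZMod 3] ZMod 3) (nd : ∀ v, (∀ w, ω v w = 0) → v = 0)
    (l : V →ₗ[ZMod 3] V) {P Q S : (ZMod 3)[X]} (hQS : aeval l (Q * S) = 0) (hc : IsCoprime Q S)
    (H : ∀ v w, aeval l P v = 0 → ω v (aeval l Q w) = 0) : finrank (ZMod 3) (kp l P) ≤ finrank (ZMod 3) (kp l Q) := by
  let ψ : kp l P →ₗ[ZMod 3] Module.Dual (ZMod 3) (kp l Q) :=
    { toFun := fun v => (ω v.1).comp (kp l Q).subtype
      map_add' := fun a b => by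
        ext w
        simp
      map_smul' := fun c a => by
        ext w
        simp }
  have hψ : Function.Injective ψ := by
    rw [injective_iff_map_eq_zero]
    intro v hv
    apply Subtype.ext
    apply nd
    intro w
    obtain ⟨a, b, hab⟩ := hc
    have h1 : aeval l (a * Q + b * S) w = w := by rw [hab, map_one]; rfl
    have h2 : aeval l (b * S) w ∈ kp l Q := by
      rw [mem_kp, ← aeval_mul_apply, show Q * (b * S) = b * (Q * S) by ring, map_mul, hQS, mul_zero]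
      rfl
    have h3 : ω v.1 (aeval l (b * S) w) = 0 := LinearMap.congr_fun hv ⟨_, h2⟩
    have h4 : ω v.1 (aeval l (a * Q) w) = 0 := by
      rw [mul_comm, aeval_mul_apply]
      exact H _ _ (mem_kp.1 v.2)
    rw [← h1, aeval_add_apply, map_add, h3, h4, add_zero]
  have := LinearMap.finrank_le_finrank_of_injective hψ
  rwa [Subspace.dual_finrank_eq] at this

/-! ### the polynomials -/

theorem three_X : (3 : (ZMod 3)[X]) = 0 := by exact_mod_cast CharP.cast_eq_zero (ZMod 3)[X] 3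

theorem sep_X {n : ℕ} (hn : (n : ZMod 3) ≠ 0) : (X ^ n - 1 : (ZMod 3)[X]).Separable :=
  X_pow_sub_one_separable_iff.2 hn

theorem aeval_X_pow_sub {l : V →ₗ[ZMod 3] V} {n : ℕ} (h : l ^ n = 1) : aeval l (X ^ n - 1 : (ZMod 3)[X]) = 0 := by
  rw [map_sub, map_pow, aeval_X, h, map_one, sub_self]

theorem inv_pow' {ω : V →ₗ[ZMod 3] V →ₗ[ZMod 3] ZMod 3} {l : V →ₗ[ZMod 3] V}
    (inv : ∀ v w, ω (l v) (l w) = ω v w) (n : ℕ) : ∀ v w, ω ((l ^ n) v) ((l ^ n) w) = ω v w := by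
  induction n with
  | zero => intro v w; rfl
  | succ n ih =>
    intro v w
    rw [pow_succ', Module.End.mul_apply, Module.End.mul_apply, inv, ih]

theorem card_sub [Finite V] (W : Submodule (ZMod 3) V) : Nat.card W = 3 ^ finrank (ZMod 3) W := by
  rw [Module.natCard_eq_pow_finrank (K := ZMod 3), Nat.card_zmod]

theorem kp_add_le [Finite V] (l : V →ₗ[ZMod 3] V) {P Q : (ZMod 3)[X]} (h : IsCoprime P Q) :
    finrank (ZMod 3) (kp l P) + finrank (ZMod 3) (kp l Q) ≤ finrank (ZMod 3) V := by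
  apply Submodule.finrank_add_finrank_le_of_disjoint
  rw [Submodule.disjoint_def]
  intro x hx hx'
  exact kp_disj l h hx hx'

section
variable [Finite V] (ω : V →ₗ[ZMod 3] V →ₗ[ZMod 3] ZMod 3) (nd : ∀ v, (∀ w, ω v w = 0) → v = 0)
  (l : V →ₗ[ZMod 3] V) (inv : ∀ v w, ω (l v) (l w) = ω v w) (h6 : finrank (ZMod 3) V = 6)
include nd inv h6

/-- no element of order 16 -/
theorem no16 (h16 : l ^ 16 = 1) : l ^ 8 = 1 := by
  have hPQ : ((X ^ 4 + X ^ 2 - 1) * (X ^ 4 - X ^ 2 - 1) : (ZMod 3)[X]) = X ^ 8 + 1 := by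
    linear_combination (-X ^ 4 : (ZMod 3)[X]) * three_X
  have hT := aeval_X_pow_sub h16
  have hs : (X ^ 16 - 1 : (ZMod 3)[X]).Separable := sep_X (by decide)
  have e1 : (X ^ 16 - 1 : (ZMod 3)[X]) = (X ^ 4 + X ^ 2 - 1) * ((X ^ 4 - X ^ 2 - 1) * (X ^ 8 - 1)) := by
    rw [← mul_assoc, hPQ]; ring
  have e2 : (X ^ 16 - 1 : (ZMod 3)[X]) = (X ^ 4 - X ^ 2 - 1) * ((X ^ 4 + X ^ 2 - 1) * (X ^ 8 - 1)) := by
    rw [e1]; ring
  have c1 : IsCoprime (X ^ 4 + X ^ 2 - 1 : (ZMod 3)[X]) ((X ^ 4 - X ^ 2 - 1) * (X ^ 8 - 1)) :=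
    Separable.isCoprime (by rw [← e1]; exact hs)
  have c2 : IsCoprime (X ^ 4 - X ^ 2 - 1 : (ZMod 3)[X]) ((X ^ 4 + X ^ 2 - 1) * (X ^ 8 - 1)) :=
    Separable.isCoprime (by rw [← e2]; exact hs)
  have cc : IsCoprime (X ^ 4 + X ^ 2 - 1 : (ZMod 3)[X]) (X ^ 4 - X ^ 2 - 1) := c1.of_mul_right_left
  have ap : ∀ v, aeval l (X ^ 4 + X ^ 2 - 1 : (ZMod 3)[X]) v = (l ^ 4) v + (l ^ 2) v - v := by intro v; simp
  have aq : ∀ v, aeval l (X ^ 4 - X ^ 2 - 1 : (ZMod 3)[X]) v = (l ^ 4) v - (l ^ 2) v - v := by intro v; simp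
  have i2 : ∀ v w, ω v ((l ^ 2) w) = ω ((l ^ 2) v) ((l ^ 4) w) := by
    intro v w
    rw [← inv_pow' inv 2 v ((l ^ 2) w), ← Module.End.mul_apply (l ^ 2) (l ^ 2) w, ← pow_add]
  have i4 : ∀ v w, ω v w = ω ((l ^ 4) v) ((l ^ 4) w) := fun v w => (inv_pow' inv 4 v w).symm
  have H1 : ∀ v w, aeval l (X ^ 4 + X ^ 2 - 1 : (ZMod 3)[X]) v = 0 →
      ω v (aeval l (X ^ 4 - X ^ 2 - 1 : (ZMod 3)[X]) w) = 0 := by
    intro v w hv
    rw [ap] at hv
    rw [aq, map_sub, map_sub, i2, i4 v w, ← LinearMap.sub_apply, ← map_sub, ← LinearMap.sub_apply, ← map_sub]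
    have e : v - (l ^ 2) v - (l ^ 4) v = -((l ^ 4) v + (l ^ 2) v - v) := by abel
    rw [e, hv, neg_zero, map_zero, LinearMap.zero_apply]
  have H2 : ∀ v w, aeval l (X ^ 4 - X ^ 2 - 1 : (ZMod 3)[X]) v = 0 →
      ω v (aeval l (X ^ 4 + X ^ 2 - 1 : (ZMod 3)[X]) w) = 0 := by
    intro v w hv
    rw [aq] at hv
    rw [ap, map_sub, map_add, i2, i4 v w, ← LinearMap.add_apply, ← map_add, ← LinearMap.sub_apply, ← map_sub]
    have e : v + (l ^ 2) v - (l ^ 4) v = -((l ^ 4) v - (l ^ 2) v - v) := by abel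
    rw [e, hv, neg_zero, map_zero, LinearMap.zero_apply]
  have d1 := kp_le ω nd l (by rw [← e2]; exact hT) c2 H1
  have d2 := kp_le ω nd l (by rw [← e1]; exact hT) c1 H2
  have d3 := kp_add_le l cc
  have n8 : ∀ w, aeval l ((X ^ 4 + X ^ 2 - 1) * (X ^ 4 - X ^ 2 - 1) : (ZMod 3)[X]) w = (l ^ 8) w + w := by
    intro w; rw [hPQ]; simp
  have hb : ∀ i < 16, i ≠ 0 → ∃ b < 16, b * i % 16 = 8 := by decide
  have z1 : 16 ∣ Nat.card (kp l (X ^ 4 + X ^ 2 - 1)) - 1 := by
    refine dvd_ker l 16 8 (by norm_num) h16 _ (fun w hw => kp_stable l _ hw) ?_ hb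
    intro w hw
    have h1 := n8 w
    rw [mul_comm, aeval_mul_apply, mem_kp.1 hw, map_zero] at h1
    exact eq_neg_of_add_eq_zero_left h1.symm
  have z2 : 16 ∣ Nat.card (kp l (X ^ 4 - X ^ 2 - 1)) - 1 := by
    refine dvd_ker l 16 8 (by norm_num) h16 _ (fun w hw => kp_stable l _ hw) ?_ hb
    intro w hw
    have h1 := n8 w
    rw [aeval_mul_apply, mem_kp.1 hw, map_zero] at h1
    exact eq_neg_of_add_eq_zero_left h1.symm
  have small : ∀ W : Submodule (ZMod 3) V, finrank (ZMod 3) W ≤ 3 → 16 ∣ Nat.card W - 1 → W = ⊥ := by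
    intro W h1 h2
    rw [card_sub] at h2
    rw [← Submodule.finrank_eq_zero (R := ZMod 3)]
    generalize finrank (ZMod 3) W = d at h1 h2 ⊢
    interval_cases d
    · rfl
    all_goals (exfalso; revert h2; decide)
  have b1 := small _ (by omega) z1
  have b2 := small _ (by omega) z2
  apply LinearMap.ext
  intro v
  have h1 : aeval l ((X ^ 4 + X ^ 2 - 1) * ((X ^ 4 - X ^ 2 - 1) * (X ^ 8 - 1)) : (ZMod 3)[X]) v = 0 := by
    rw [← e1, hT]; rfl
  rw [aeval_mul_apply, ← mem_kp, b1, Submodule.mem_bot, aeval_mul_apply, ← mem_kp, b2, Submodule.mem_bot] at h1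
  have h2 : (l ^ 8) v - v = 0 := by simpa using h1
  exact sub_eq_zero.1 h2

/-- the order of a 2-element divides 8 -/
theorem pow_eight (k : ℕ) (hk : l ^ 2 ^ k = 1) : l ^ 8 = 1 := by
  induction k with
  | zero =>
    rw [pow_zero, pow_one] at hk
    rw [hk, one_pow]
  | succ k ih =>
    by_cases h3 : 3 ≤ k
    · apply ih
      have inv' := inv_pow' inv (2 ^ (k - 3))
      have h1 : (l ^ 2 ^ (k - 3)) ^ 16 = 1 := by
        rw [← pow_mul, show 2 ^ (k - 3) * 16 = 2 ^ (k + 1) from by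
          rw [show (16 : ℕ) = 2 ^ 4 by norm_num, ← pow_add]; congr 1; omega]
        exact hk
      have h2 := no16 ω nd (l ^ 2 ^ (k - 3)) inv' h6 h1
      rw [← pow_mul, show 2 ^ (k - 3) * 8 = 2 ^ k from by
          rw [show (8 : ℕ) = 2 ^ 3 by norm_num, ← pow_add]; congr 1; omega] at h2
      exact h2
    · have h1 : 2 ^ (k + 1) ∣ 2 ^ 3 := pow_dvd_pow 2 (by omega)
      obtain ⟨c, hc⟩ := h1
      rw [show (8 : ℕ) = 2 ^ 3 by norm_num, hc, pow_mul, hk, one_pow]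

end

/-! ### generators -/

/-- `l² = α l + β` on `W`, irreducible -/
def Ani (a b : ZMod 3) : Prop := ∀ c d : ZMod 3, d * d + a * c * d - b * c * c = 0 → c = 0 ∧ d = 0

theorem ani_pt {a b : ZMod 3} (h : Ani a b) {l : V →ₗ[ZMod 3] V} {U : Submodule (ZMod 3) V}
    (hU : ∀ u ∈ U, l u ∈ U) {x : V} (hx : l (l x) = a • l x + b • x) (hxU : x ∉ U) {c d : ZMod 3}
    (hcd : c • l x + d • x ∈ U) : c = 0 ∧ d = 0 := by
  apply h
  by_contra h0
  apply hxU
  have h1 := hU _ hcd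
  rw [map_add, map_smul, map_smul, hx] at h1
  have h2 : (d * d + a * c * d - b * c * c) • x ∈ U := by
    have e : (d * d + a * c * d - b * c * c) • x =
        (c * a + d) • (c • l x + d • x) - c • (c • (a • l x + b • x) + d • l x) := by
      module
    rw [e]
    exact U.sub_mem (U.smul_mem _ hcd) (U.smul_mem _ h1)
  have h3 := U.smul_mem (d * d + a * c * d - b * c * c)⁻¹ h2
  rwa [smul_smul, inv_mul_cancel₀ h0, one_smul] at h3

/-- the map `(c, d) ↦ c l x + d x` -/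
def pr2 (l : V →ₗ[ZMod 3] V) (x : V) : (ZMod 3 × ZMod 3) →ₗ[ZMod 3] V where
  toFun p := p.1 • l x + p.2 • x
  map_add' p q := by
    simp only [Prod.fst_add, Prod.snd_add, add_smul]
    abel
  map_smul' c p := by
    simp only [Prod.smul_fst, Prod.smul_snd, smul_eq_mul, mul_smul, smul_add, RingHom.id_apply]

theorem ani_rank {a b : ZMod 3} (h : Ani a b) {l : V →ₗ[ZMod 3] V} {U : Submodule (ZMod 3) V}
    (hU : ∀ u ∈ U, l u ∈ U) {x : V} (hx : l (l x) = a • l x + b • x) (hxU : x ∉ U) :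
    Disjoint U (LinearMap.range (pr2 l x)) ∧ finrank (ZMod 3) (LinearMap.range (pr2 l x)) = 2 := by
  constructor
  · rw [Submodule.disjoint_def]
    rintro _ hu ⟨⟨c, d⟩, rfl⟩
    obtain ⟨rfl, rfl⟩ := ani_pt h hU hx hxU hu
    exact map_zero _
  · rw [LinearMap.finrank_range_of_inj, Module.finrank_prod, Module.finrank_self]
    rw [injective_iff_map_eq_zero]
    rintro ⟨c, d⟩ hcd
    obtain ⟨rfl, rfl⟩ := ani_pt h hU hx hxU (c := c) (d := d) (by
      have e : c • l x + d • x = 0 := hcd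
      rw [e]; exact U.zero_mem)
    rfl

/-- one generator -/
theorem exists_gen [Finite V] {a b : ZMod 3} (h : Ani a b) (l : V →ₗ[ZMod 3] V) (W : Submodule (ZMod 3) V)
    (hW : ∀ w ∈ W, l w ∈ W) (hq : ∀ w ∈ W, l (l w) = a • l w + b • w) (h2 : finrank (ZMod 3) W ≤ 2) :
    ∃ x ∈ W, ∀ U : Submodule (ZMod 3) V, (∀ u ∈ U, l u ∈ U) → x ∈ U → W ≤ U := by
  by_cases hb : W = ⊥
  · exact ⟨0, W.zero_mem, fun U _ _ => by rw [hb]; exact bot_le⟩
  obtain ⟨x, hx, hx0⟩ := Submodule.exists_mem_ne_zero_of_ne_bot hb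
  refine ⟨x, hx, fun U hU hxU => ?_⟩
  have h1 := ani_rank h (U := (⊥ : Submodule (ZMod 3) V)) (l := l) (by
    intro u hu
    rw [Submodule.mem_bot] at hu ⊢
    rw [hu, map_zero]) (hq x hx) (by rwa [Submodule.mem_bot])
  have h3 : LinearMap.range (pr2 l x) ≤ W := by
    rintro _ ⟨⟨c, d⟩, rfl⟩
    exact W.add_mem (W.smul_mem _ (hW _ hx)) (W.smul_mem _ hx)
  have h4 : LinearMap.range (pr2 l x) = W := Submodule.eq_of_le_of_finrank_le h3 (by rw [h1.2]; exact h2)
  rw [← h4]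
  rintro _ ⟨⟨c, d⟩, rfl⟩
  exact U.add_mem (U.smul_mem _ (hU _ hxU)) (U.smul_mem _ hxU)

/-- `n` generators -/
theorem exists_gens [Finite V] {a b : ZMod 3} (h : Ani a b) (l : V →ₗ[ZMod 3] V)
    (hq : ∀ w, l (l w) = a • l w + b • w) (n : ℕ) : ∀ U : Submodule (ZMod 3) V, (∀ u ∈ U, l u ∈ U) →
    finrank (ZMod 3) V ≤ finrank (ZMod 3) U + 2 * n → ∃ x : Fin n → V, ∀ W : Submodule (ZMod 3) V, U ≤ W →
      (∀ w ∈ W, l w ∈ W) → (∀ i, x i ∈ W) → W = ⊤ := by
  induction n with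
  | zero =>
    intro U _ h1
    refine ⟨Fin.elim0, fun W hUW _ _ => ?_⟩
    have h2 : U = ⊤ := Submodule.eq_top_of_finrank_eq (le_antisymm (Submodule.finrank_le _) (by simpa using h1))
    rw [h2] at hUW
    exact top_le_iff.1 hUW
  | succ n ih =>
    intro U hU h1
    by_cases ht : U = ⊤
    · refine ⟨fun _ => 0, fun W hUW _ _ => ?_⟩
      rw [ht] at hUW
      exact top_le_iff.1 hUW
    · obtain ⟨x0, hx0⟩ : ∃ x0, x0 ∉ U := by
        by_contra hcon
        push Not at hcon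
        exact ht (eq_top_iff.2 fun v _ => hcon v)
      have h2 := ani_rank h hU (hq x0) hx0
      obtain ⟨x, hx⟩ := ih (U ⊔ LinearMap.range (pr2 l x0)) (by
        intro u hu
        obtain ⟨u1, h3, u2, h4, rfl⟩ := Submodule.mem_sup.1 hu
        rw [map_add]
        refine Submodule.add_mem_sup (hU _ h3) ?_
        obtain ⟨⟨c, d⟩, rfl⟩ := h4
        refine ⟨⟨c * a + d, c * b⟩, ?_⟩
        show (c * a + d) • l x0 + (c * b) • x0 = l (c • l x0 + d • x0)
        rw [map_add, map_smul, map_smul, hq]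
        module) (by
        have h3 := Submodule.finrank_sup_add_finrank_inf_eq U (LinearMap.range (pr2 l x0))
        rw [disjoint_iff.1 h2.1, finrank_bot, h2.2] at h3
        omega)
      refine ⟨Fin.cons x0 x, fun W hUW hW hxW => hx W ?_ hW (fun i => hxW i.succ)⟩
      refine sup_le hUW ?_
      have h3 : x0 ∈ W := hxW 0
      rintro _ ⟨⟨c, d⟩, rfl⟩
      exact W.add_mem (W.smul_mem _ (hW _ h3)) (W.smul_mem _ h3)

theorem comm_aeval {l a : V →ₗ[ZMod 3] V} (h : a * l = l * a) (P : (ZMod 3)[X]) : Commute a (aeval l P) := by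
  induction P using Polynomial.induction_on' with
  | add p q hp hq =>
    rw [map_add]
    exact hp.add_right hq
  | monomial n c =>
    rw [aeval_monomial]
    have h1 : Commute a l := h
    have h2 : Commute a (algebraMap (ZMod 3) (Module.End (ZMod 3) V) c) := (Algebra.commutes c a).symm
    exact h2.mul_right (h1.pow_right n)

/-- the kernel of the difference of two commuting endomorphisms -/
theorem ker_stable {l a a' : V →ₗ[ZMod 3] V} (h : a * l = l * a) (h' : a' * l = l * a') :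
    ∀ w ∈ LinearMap.ker (a - a'), l w ∈ LinearMap.ker (a - a') := by
  intro w hw
  rw [LinearMap.mem_ker, LinearMap.sub_apply, sub_eq_zero] at hw ⊢
  have h1 : a (l w) = l (a w) := LinearMap.congr_fun h w
  have h2 : a' (l w) = l (a' w) := LinearMap.congr_fun h' w
  rw [h1, h2, hw]

/-- `l² = -1` : at most `729³` endomorphisms commute with `l` -/
theorem card_comm_neg [Finite V] (l : V →ₗ[ZMod 3] V) (h6 : finrank (ZMod 3) V = 6) (h2 : l ^ 2 = -1) :
    Nat.card {a : V →ₗ[ZMod 3] V // a * l = l * a} ≤ 729 ^ 3 := by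
  obtain ⟨x, hx⟩ := exists_gens (a := 0) (b := -1) (by unfold Ani; decide) l (by
    intro w
    have h3 : (l ^ 2) w = -w := by rw [h2]; rfl
    rw [pow_two, Module.End.mul_apply] at h3
    rw [h3, zero_smul, zero_add, neg_smul, one_smul]) 3 ⊥ (by
    intro u hu
    rw [Submodule.mem_bot] at hu ⊢
    rw [hu, map_zero]) (by rw [h6, finrank_bot])
  have hV : Nat.card V = 729 := by
    rw [Module.natCard_eq_pow_finrank (K := ZMod 3), Nat.card_zmod, h6]
    norm_num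
  have h3 : Nat.card (Fin 3 → V) = 729 ^ 3 := by rw [Nat.card_fun, hV, Nat.card_fin]
  rw [← h3]
  refine Nat.card_le_card_of_injective (fun a i => a.1 (x i)) ?_
  rintro ⟨a, ha⟩ ⟨a', ha'⟩ haa
  apply Subtype.ext
  show a = a'
  have h4 := hx (LinearMap.ker (a - a')) bot_le (ker_stable ha ha') (fun i => by
    rw [LinearMap.mem_ker, LinearMap.sub_apply, sub_eq_zero]
    exact congrFun haa i)
  rw [LinearMap.ker_eq_top, sub_eq_zero] at h4
  exact h4

/-- **2-elements without eigenvalue `±1`** -/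
theorem sp_two [Finite V] (ω : V →ₗ[ZMod 3] V →ₗ[ZMod 3] ZMod 3) (nd : ∀ v, (∀ w, ω v w = 0) → v = 0)
    (l : V →ₗ[ZMod 3] V) (inv : ∀ v w, ω (l v) (l w) = ω v w) (h6 : finrank (ZMod 3) V = 6) (k : ℕ)
    (hk : l ^ 2 ^ k = 1) (e1 : ∀ v, l v = v → v = 0) (e2 : ∀ v, l v = -v → v = 0) :
    l ^ 2 = -1 ∨ Nat.card {a : V →ₗ[ZMod 3] V // a * l = l * a} ≤ 729 := by
  have h8 := pow_eight ω nd l inv h6 k hk
  have hs : (X ^ 8 - 1 : (ZMod 3)[X]).Separable := sep_X (by decide)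
  have hT := aeval_X_pow_sub h8
  have hBC : ((X ^ 2 + X - 1) * (X ^ 2 - X - 1) : (ZMod 3)[X]) = X ^ 4 + 1 := by
    linear_combination (-X ^ 2 : (ZMod 3)[X]) * three_X
  have f1 : (X ^ 8 - 1 : (ZMod 3)[X]) = (X ^ 2 + X - 1) * ((X ^ 2 - X - 1) * (X ^ 4 - 1)) := by
    rw [← mul_assoc, hBC]; ring
  have f2 : (X ^ 8 - 1 : (ZMod 3)[X]) = (X ^ 2 - X - 1) * ((X ^ 2 + X - 1) * (X ^ 4 - 1)) := by
    rw [f1]; ring
  have f3 : (X ^ 8 - 1 : (ZMod 3)[X]) = (X ^ 2 + 1) * ((X ^ 4 + 1) * (X ^ 2 - 1)) := by ring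
  have c1 : IsCoprime (X ^ 2 + X - 1 : (ZMod 3)[X]) ((X ^ 2 - X - 1) * (X ^ 4 - 1)) :=
    Separable.isCoprime (by rw [← f1]; exact hs)
  have c2 : IsCoprime (X ^ 2 - X - 1 : (ZMod 3)[X]) ((X ^ 2 + X - 1) * (X ^ 4 - 1)) :=
    Separable.isCoprime (by rw [← f2]; exact hs)
  have c3 : IsCoprime (X ^ 2 + 1 : (ZMod 3)[X]) ((X ^ 4 + 1) * (X ^ 2 - 1)) :=
    Separable.isCoprime (by rw [← f3]; exact hs)
  have cc : IsCoprime (X ^ 2 + X - 1 : (ZMod 3)[X]) (X ^ 2 - X - 1) := c1.of_mul_right_left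
  have cA : IsCoprime (X ^ 2 + 1 : (ZMod 3)[X]) (X ^ 4 + 1) := c3.of_mul_right_left
  have ab : ∀ v, aeval l (X ^ 2 + X - 1 : (ZMod 3)[X]) v = (l ^ 2) v + l v - v := by intro v; simp
  have ac : ∀ v, aeval l (X ^ 2 - X - 1 : (ZMod 3)[X]) v = (l ^ 2) v - l v - v := by intro v; simp
  have i1 : ∀ v w, ω v (l w) = ω (l v) ((l ^ 2) w) := by
    intro v w
    rw [← inv v (l w), pow_two, Module.End.mul_apply]
  have i2 : ∀ v w, ω v w = ω ((l ^ 2) v) ((l ^ 2) w) := fun v w => (inv_pow' inv 2 v w).symm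
  have H1 : ∀ v w, aeval l (X ^ 2 + X - 1 : (ZMod 3)[X]) v = 0 →
      ω v (aeval l (X ^ 2 - X - 1 : (ZMod 3)[X]) w) = 0 := by
    intro v w hv
    rw [ab] at hv
    rw [ac, map_sub, map_sub, i1, i2 v w, ← LinearMap.sub_apply, ← map_sub, ← LinearMap.sub_apply, ← map_sub]
    have e : v - l v - (l ^ 2) v = -((l ^ 2) v + l v - v) := by abel
    rw [e, hv, neg_zero, map_zero, LinearMap.zero_apply]
  have H2 : ∀ v w, aeval l (X ^ 2 - X - 1 : (ZMod 3)[X]) v = 0 →
      ω v (aeval l (X ^ 2 + X - 1 : (ZMod 3)[X]) w) = 0 := by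
    intro v w hv
    rw [ac] at hv
    rw [ab, map_sub, map_add, i1, i2 v w, ← LinearMap.add_apply, ← map_add, ← LinearMap.sub_apply, ← map_sub]
    have e : v + l v - (l ^ 2) v = -((l ^ 2) v - l v - v) := by abel
    rw [e, hv, neg_zero, map_zero, LinearMap.zero_apply]
  have d1 := kp_le ω nd l (by rw [← f2]; exact hT) c2 H1
  have d2 := kp_le ω nd l (by rw [← f1]; exact hT) c1 H2
  have d3 := kp_add_le l cc
  have d4 := kp_add_le l cA
  have n4 : ∀ w, aeval l ((X ^ 2 + X - 1) * (X ^ 2 - X - 1) : (ZMod 3)[X]) w = (l ^ 4) w + w := by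
    intro w; rw [hBC]; simp
  have hb : ∀ i < 8, i ≠ 0 → ∃ b < 8, b * i % 8 = 4 := by decide
  have z1 : 8 ∣ Nat.card (kp l (X ^ 2 + X - 1)) - 1 := by
    refine dvd_ker l 8 4 (by norm_num) h8 _ (fun w hw => kp_stable l _ hw) ?_ hb
    intro w hw
    have h1 := n4 w
    rw [mul_comm, aeval_mul_apply, mem_kp.1 hw, map_zero] at h1
    exact eq_neg_of_add_eq_zero_left h1.symm
  rw [card_sub] at z1
  -- injectivity of `l² - 1`
  have hA : aeval l ((X ^ 2 + 1) * (X ^ 4 + 1) : (ZMod 3)[X]) = 0 := by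
    apply LinearMap.ext
    intro v
    have h1 : aeval l (X ^ 2 - 1 : (ZMod 3)[X]) (aeval l ((X ^ 2 + 1) * (X ^ 4 + 1) : (ZMod 3)[X]) v) = 0 := by
      rw [← aeval_mul_apply, show ((X ^ 2 - 1) * ((X ^ 2 + 1) * (X ^ 4 + 1)) : (ZMod 3)[X]) = X ^ 8 - 1 by ring, hT]
      rfl
    generalize aeval l ((X ^ 2 + 1) * (X ^ 4 + 1) : (ZMod 3)[X]) v = u at h1
    have h2 : l (l u) - u = 0 := by
      have h3 : aeval l (X ^ 2 - 1 : (ZMod 3)[X]) u = (l ^ 2) u - u := by simp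
      rw [h3, pow_two, Module.End.mul_apply] at h1
      exact h1
    have h3 : l u + u = 0 := by
      apply e1
      rw [map_add, sub_eq_zero.1 h2, add_comm]
    exact e2 _ (eq_neg_of_add_eq_zero_left h3)
  by_cases h0 : finrank (ZMod 3) (kp l (X ^ 2 + X - 1)) = 0
  · left
    have b1 : kp l (X ^ 2 + X - 1) = ⊥ := Submodule.finrank_eq_zero.1 h0
    have b2 : kp l (X ^ 2 - X - 1) = ⊥ := Submodule.finrank_eq_zero.1 (by omega)
    apply LinearMap.ext
    intro v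
    have h1 : aeval l ((X ^ 2 + X - 1) * ((X ^ 2 - X - 1) * (X ^ 2 + 1)) : (ZMod 3)[X]) v = 0 := by
      rw [← mul_assoc, hBC, mul_comm, hA]; rfl
    rw [aeval_mul_apply, ← mem_kp, b1, Submodule.mem_bot, aeval_mul_apply, ← mem_kp, b2, Submodule.mem_bot] at h1
    have h2 : (l ^ 2) v + v = 0 := by simpa using h1
    exact eq_neg_of_add_eq_zero_left h2
  · right
    have hd : finrank (ZMod 3) (kp l (X ^ 2 + X - 1)) = 2 := by
      have h3 : finrank (ZMod 3) (kp l (X ^ 2 + X - 1)) ≤ 3 := by omega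
      generalize finrank (ZMod 3) (kp l (X ^ 2 + X - 1)) = d at h3 z1 h0
      interval_cases d
      · exact absurd rfl h0
      · exfalso; revert z1; decide
      · rfl
      · exfalso; revert z1; decide
    have hd' : finrank (ZMod 3) (kp l (X ^ 2 - X - 1)) = 2 := by omega
    have hdA : finrank (ZMod 3) (kp l (X ^ 2 + 1)) ≤ 2 := by
      have h1 : kp l (X ^ 2 + X - 1) ⊔ kp l (X ^ 2 - X - 1) ≤ kp l (X ^ 4 + 1) := by
        refine sup_le ?_ ?_
        · intro v hv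
          rw [← hBC, mul_comm]
          exact kp_mul l hv
        · intro v hv
          rw [← hBC]
          exact kp_mul l hv
      have h2 := Submodule.finrank_mono h1
      have h3 := Submodule.finrank_sup_add_finrank_inf_eq (kp l (X ^ 2 + X - 1)) (kp l (X ^ 2 - X - 1))
      have h4 : kp l (X ^ 2 + X - 1) ⊓ kp l (X ^ 2 - X - 1) = ⊥ := by
        rw [← disjoint_iff, Submodule.disjoint_def]
        intro x hx hx'
        exact kp_disj l cc hx hx'
      rw [h4, finrank_bot] at h3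
      omega
    have qA : ∀ w ∈ kp l (X ^ 2 + 1), l (l w) = (0 : ZMod 3) • l w + (-1 : ZMod 3) • w := by
      intro w hw
      have h1 : aeval l (X ^ 2 + 1 : (ZMod 3)[X]) w = l (l w) + w := by simp [pow_two]
      rw [mem_kp, h1] at hw
      rw [eq_neg_of_add_eq_zero_left hw]
      module
    have qB : ∀ w ∈ kp l (X ^ 2 + X - 1), l (l w) = (-1 : ZMod 3) • l w + (1 : ZMod 3) • w := by
      intro w hw
      rw [mem_kp, ab, pow_two, Module.End.mul_apply] at hw
      have e : l (l w) = (l (l w) + l w - w) - l w + w := by abel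
      rw [e, hw]
      module
    have qC : ∀ w ∈ kp l (X ^ 2 - X - 1), l (l w) = (1 : ZMod 3) • l w + (1 : ZMod 3) • w := by
      intro w hw
      rw [mem_kp, ac, pow_two, Module.End.mul_apply] at hw
      have e : l (l w) = (l (l w) - l w - w) + l w + w := by abel
      rw [e, hw]
      module
    obtain ⟨x1, hx1, g1⟩ := exists_gen (by unfold Ani; decide) l _ (fun w hw => kp_stable l _ hw) qA hdA
    obtain ⟨x2, hx2, g2⟩ := exists_gen (by unfold Ani; decide) l _ (fun w hw => kp_stable l _ hw) qB hd.le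
    obtain ⟨x3, hx3, g3⟩ := exists_gen (by unfold Ani; decide) l _ (fun w hw => kp_stable l _ hw) qC hd'.le
    have hab : ∀ (P : (ZMod 3)[X]) (a : V →ₗ[ZMod 3] V), a * l = l * a → ∀ v ∈ kp l P, a v ∈ kp l P := by
      intro P a ha v hv
      rw [mem_kp] at hv ⊢
      have h1 : Commute a (aeval l P) := comm_aeval ha P
      have h2 : a (aeval l P v) = aeval l P (a v) := LinearMap.congr_fun h1.eq v
      rw [← h2, hv, map_zero]
    have h3 : Nat.card (kp l (X ^ 2 + 1 : (ZMod 3)[X]) × kp l (X ^ 2 + X - 1 : (ZMod 3)[X]) ×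
        kp l (X ^ 2 - X - 1 : (ZMod 3)[X])) ≤ 729 := by
      rw [Nat.card_prod, Nat.card_prod, card_sub, card_sub, card_sub, hd, hd']
      have := Nat.pow_le_pow_right (n := 3) (by norm_num) hdA
      calc _ ≤ 3 ^ 2 * (3 ^ 2 * 3 ^ 2) := Nat.mul_le_mul_right _ this
        _ = 729 := by norm_num
    refine le_trans ?_ h3
    refine Nat.card_le_card_of_injective (fun a => ⟨⟨a.1 x1, hab _ _ a.2 _ hx1⟩, ⟨a.1 x2, hab _ _ a.2 _ hx2⟩,
      ⟨a.1 x3, hab _ _ a.2 _ hx3⟩⟩) ?_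
    rintro ⟨a, ha⟩ ⟨a', ha'⟩ haa
    apply Subtype.ext
    show a = a'
    have hst := ker_stable ha ha'
    have m1 := g1 _ hst (by
      rw [LinearMap.mem_ker, LinearMap.sub_apply, sub_eq_zero]
      exact congrArg (fun p => (p.1 : V)) haa)
    have m2 := g2 _ hst (by
      rw [LinearMap.mem_ker, LinearMap.sub_apply, sub_eq_zero]
      exact congrArg (fun p => (p.2.1 : V)) haa)
    have m3 := g3 _ hst (by
      rw [LinearMap.mem_ker, LinearMap.sub_apply, sub_eq_zero]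
      exact congrArg (fun p => (p.2.2 : V)) haa)
    rw [← sub_eq_zero, ← LinearMap.ker_eq_top, eq_top_iff]
    intro v _
    -- `1 = -(BC + AC + AB)`
    have e : (1 : (ZMod 3)[X]) = -((X ^ 4 + 1) + (X ^ 2 + 1) * (X ^ 2 - X - 1) + (X ^ 2 + 1) * (X ^ 2 + X - 1)) := by
      linear_combination (X ^ 4 : (ZMod 3)[X]) * three_X
    have e' : v = -(aeval l (X ^ 4 + 1 : (ZMod 3)[X]) v + aeval l ((X ^ 2 + 1) * (X ^ 2 - X - 1) : (ZMod 3)[X]) v +
        aeval l ((X ^ 2 + 1) * (X ^ 2 + X - 1) : (ZMod 3)[X]) v) := by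
      have h4 : aeval l (1 : (ZMod 3)[X]) v = v := by rw [map_one]; rfl
      rw [← aeval_add_apply, ← aeval_add_apply, ← LinearMap.neg_apply, ← map_neg, ← e, h4]
    rw [e']
    refine Submodule.neg_mem _ (Submodule.add_mem _ (Submodule.add_mem _ (m1 ?_) (m2 ?_)) (m3 ?_))
    · rw [mem_kp, ← aeval_mul_apply, hA]; rfl
    · rw [mem_kp, ← aeval_mul_apply, show ((X ^ 2 + X - 1) * ((X ^ 2 + 1) * (X ^ 2 - X - 1)) : (ZMod 3)[X]) =
        (X ^ 2 + 1) * ((X ^ 2 + X - 1) * (X ^ 2 - X - 1)) by ring, hBC, hA]; rfl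
    · rw [mem_kp, ← aeval_mul_apply, show ((X ^ 2 - X - 1) * ((X ^ 2 + 1) * (X ^ 2 + X - 1)) : (ZMod 3)[X]) =
        (X ^ 2 + 1) * ((X ^ 2 + X - 1) * (X ^ 2 - X - 1)) by ring, hBC, hA]; rfl

end Cfsg.Agent.H98.Pw
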