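import Cfsg.Agent.H98.Pw.MixedXS
import Cfsg.Agent.H98.Pw.SpTwo
import Cfsg.Agent.H700.F43.Mod

/-!
# Mixed elements of `C(z)`, `z` a long root element of `F₄(3)` (helper98, for S2465)

`G` a group, `H = C_G(z)`, `Q` normal in `H`, `f : H → Sp₆(3)` with kernel `Q`.
* `sp_card` : 2-elements of `Sp₆(3)` without eigenvalue `±1`;
* `card_cent_le` : a 2-element `s` of `H` with `f s` without eigenvalue `±1`: `|C_H(s)| ≤ 4976985092`;
* `exists_conj_comm` : a 2-element `c` with `f c` commuting with `f x` commutes with a `Q`-conjugate of `x`;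
* `tv` : `f s` with eigenvalue `±1` commutes with a conjugate of the transvection `f x`;
* `mixed_all` : all elements `s u`, `s ≠ 1` a 2-element, `u ≠ 1` a 3-element.
-/

set_option autoImplicit false

namespace Cfsg.Agent.H98.Pw

open Module Subgroup Matrix
open Cfsg.Agent.H323.Pw
open Cfsg.Agent.H700.F43 (Sp V6 ng)

universe v

/-- the symplectic form -/
noncomputable def om : V6 →ₗ[ZMod 3] V6 →ₗ[ZMod 3] ZMod 3 :=
  Matrix.toLinearMap₂' (ZMod 3) (Matrix.J (Fin 3) (ZMod 3))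

theorem om_apply (x y : V6) : om x y = x ⬝ᵥ ((Matrix.J (Fin 3) (ZMod 3)).mulVec y) :=
  Matrix.toLinearMap₂'_apply' _ _ _

theorem om_inv (A : Sp) (x y : V6) : om (A.1.mulVec x) (A.1.mulVec y) = om x y := by
  have h1 : A.1ᵀ * Matrix.J (Fin 3) (ZMod 3) * A.1 = Matrix.J (Fin 3) (ZMod 3) := SymplecticGroup.mem_iff'.1 A.2
  rw [om_apply, om_apply, Matrix.dotProduct_mulVec, ← Matrix.vecMul_transpose, Matrix.vecMul_vecMul,
    Matrix.dotProduct_mulVec, Matrix.vecMul_vecMul, h1, ← Matrix.dotProduct_mulVec]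

theorem om_nd (x : V6) (h : ∀ y, om x y = 0) : x = 0 := by
  have h1 : ∀ y : V6, x ⬝ᵥ y = 0 := by
    intro y
    have h2 := h ((-Matrix.J (Fin 3) (ZMod 3)).mulVec y)
    rw [om_apply, Matrix.mulVec_mulVec, mul_neg, Matrix.J_squared, neg_neg, Matrix.one_mulVec] at h2
    exact h2
  exact dotProduct_eq_zero _ h1

/-- the linear map of `A` -/
noncomputable def lm (A : Sp) : V6 →ₗ[ZMod 3] V6 := Matrix.toLinAlgEquiv' A.1

theorem lm_apply (A : Sp) (x : V6) : lm A x = A.1.mulVec x := Matrix.toLinAlgEquiv'_apply _ _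

theorem lm_mul (A B : Sp) : lm (A * B) = lm A * lm B := by
  unfold lm
  rw [← map_mul]
  rfl

theorem lm_one : lm 1 = 1 := by
  unfold lm
  rw [← map_one (Matrix.toLinAlgEquiv' (R := ZMod 3) (n := Fin 3 ⊕ Fin 3))]
  rfl

theorem lm_pow (A : Sp) (n : ℕ) : lm (A ^ n) = lm A ^ n := by
  induction n with
  | zero => rw [pow_zero, pow_zero, lm_one]
  | succ n ih => rw [pow_succ, pow_succ, lm_mul, ih]

theorem lm_inj {A B : Sp} (h : lm A = lm B) : A = B :=
  Subtype.ext (Matrix.toLinAlgEquiv'.injective h)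

theorem lm_ng : lm ng = -1 := by
  have h1 : lm ng = Matrix.toLinAlgEquiv' (-1 : Matrix (Fin 3 ⊕ Fin 3) (Fin 3 ⊕ Fin 3) (ZMod 3)) := rfl
  rw [h1, map_neg, map_one]

theorem rank_V6 : finrank (ZMod 3) V6 = 6 := by
  rw [Module.finrank_fintype_fun_eq_card]
  rfl

theorem card_cent_inj (A : Sp) : Nat.card {B : Sp // B * A = A * B} ≤
    Nat.card {a : V6 →ₗ[ZMod 3] V6 // a * lm A = lm A * a} := by
  haveI : Finite (V6 →ₗ[ZMod 3] V6) := Finite.of_injective (fun a => (a : V6 → V6)) DFunLike.coe_injective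
  refine Nat.card_le_card_of_injective (fun B => ⟨lm B.1, by rw [← lm_mul, B.2, lm_mul]⟩) ?_
  rintro ⟨B, hB⟩ ⟨B', hB'⟩ h
  exact Subtype.ext (lm_inj (congrArg Subtype.val h))

/-- 2-elements of `Sp₆(3)` without eigenvalue `±1` -/
theorem sp_card (A : Sp) (k : ℕ) (hk : A ^ 2 ^ k = 1) (e1 : ∀ x, A.1.mulVec x = x → x = 0)
    (e2 : ∀ x, A.1.mulVec x = -x → x = 0) :
    (A * A = ng ∧ Nat.card {B : Sp // B * A = A * B} ≤ 729 ^ 3) ∨ Nat.card {B : Sp // B * A = A * B} ≤ 729 := by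
  rcases sp_two om om_nd (lm A) (fun v w => by rw [lm_apply, lm_apply, om_inv]) rank_V6 k
    (by rw [← lm_pow, hk, lm_one]) (fun v hv => e1 v (by rw [← lm_apply, hv]))
    (fun v hv => e2 v (by rw [← lm_apply, hv])) with h1 | h1
  · left
    constructor
    · apply lm_inj
      rw [lm_mul, ← pow_two, h1, lm_ng]
    · exact (card_cent_inj A).trans (card_comm_neg (lm A) rank_V6 h1)
  · right
    exact (card_cent_inj A).trans h1

section two

variable {H : Type v} [Group H] {Q : Subgroup H} {z : H}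

/-- `|C_H(s)| ≤ |C_Q(s)| |C(f s)|` -/
theorem card_cent_le_mul [Finite H] {S : Type*} [Group S] [Finite S] (f : H →* S) (s : H) :
    Nat.card (centralizer ({s} : Set H)) ≤
      Nat.card {x : H // x ∈ f.ker ∧ x * s = s * x} * Nat.card {B : S // B * f s = f s * B} := by
  set C := centralizer ({s} : Set H) with hC
  set φ : C →* S := f.comp C.subtype with hφ
  have h1 : Nat.card C = Nat.card φ.ker * Nat.card φ.range := by
    rw [mul_comm, ← Nat.card_congr (QuotientGroup.quotientKerEquivRange φ).toEquiv]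
    exact Subgroup.card_eq_card_quotient_mul_card_subgroup φ.ker
  rw [h1]
  have hcm : ∀ c : C, (c : H) * s = s * c := by
    intro c
    exact (mem_centralizer_singleton_iff.1 c.2)
  refine Nat.mul_le_mul ?_ ?_
  · refine Nat.card_le_card_of_injective (fun x => ⟨x.1.1, ?_, hcm x.1⟩) ?_
    · have h2 := x.2
      rw [MonoidHom.mem_ker] at h2 ⊢
      exact h2
    · intro x y hxy
      exact Subtype.ext (Subtype.ext (Subtype.mk.inj hxy))
  · refine Nat.card_le_card_of_injective (fun B => ⟨B.1, ?_⟩) ?_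
    · obtain ⟨c, hc⟩ := B.2
      rw [← hc]
      show f c * f s = f s * f c
      rw [← map_mul, hcm, map_mul]
    · intro x y hxy
      exact Subtype.ext (Subtype.mk.inj hxy)

/-- **2-elements without eigenvalue `±1`** -/
theorem card_cent_le [Finite H] (h : XS 3 Q z) (hQ : Nat.card Q = 3 ^ 15) (f : H →* Sp) (hf : f.ker = Q) {t : H}
    (ht : f t = ng) (INV : ∀ x ∈ Q, t * x * t⁻¹ * x⁻¹ ∈ zpowers z → x ∈ zpowers z)
    (FAITH : ∀ g, (∀ x ∈ Q, g * x * g⁻¹ * x⁻¹ ∈ zpowers z) → g ∈ Q) {s : H} {k : ℕ} (hs : s ^ 2 ^ k = 1)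
    (e1 : ∀ x, (f s).1.mulVec x = x → x = 0) (e2 : ∀ x, (f s).1.mulVec x = -x → x = 0) :
    Nat.card (centralizer ({s} : Set H)) ≤ 4976985092 := by
  have hfs : (f s) ^ 2 ^ k = 1 := by rw [← map_pow, hs, map_one]
  refine (card_cent_le_mul f s).trans ?_
  rcases sp_card (f s) k hfs e1 e2 with ⟨h1, h2⟩ | h2
  · have h3 : Nat.card {x : H // x ∈ f.ker ∧ x * s = s * x} ≤ 3 := by
      have h4 : Nat.card (zpowers z) = 3 := by rw [Nat.card_zpowers, h.ord]
      refine le_of_le_of_eq ?_ h4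
      refine Nat.card_le_card_of_injective (fun x => ⟨x.1, ?_⟩) ?_
      · obtain ⟨x, hx, hxs⟩ := x
        show x ∈ zpowers z
        rw [hf] at hx
        apply INV x hx
        -- `s² = t q`
        have h5 : t⁻¹ * (s * s) ∈ Q := by
          rw [← hf, MonoidHom.mem_ker, map_mul, map_inv, ht, map_mul, h1, inv_mul_cancel]
        set q := t⁻¹ * (s * s) with hq
        have h6 : t = s * s * q⁻¹ := by rw [hq]; group
        have h7 := h.comm _ (Q.inv_mem h5) x hx
        have e : t * x * t⁻¹ * x⁻¹ = s * s * (q⁻¹ * x * q⁻¹⁻¹ * x⁻¹) * (x * s⁻¹) * s⁻¹ * x⁻¹ := by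
          rw [h6]; group
        have hxs' : x * s⁻¹ = s⁻¹ * x := by
          rw [mul_inv_eq_iff_eq_mul, mul_assoc, hxs, ← mul_assoc, inv_mul_cancel, one_mul]
        rw [e, h.zc h7 (s * s), hxs']
        have e3 : q⁻¹ * x * q⁻¹⁻¹ * x⁻¹ * (s * s) * (s⁻¹ * x) * s⁻¹ * x⁻¹ =
            q⁻¹ * x * q⁻¹⁻¹ * x⁻¹ * (s * (x * s⁻¹) * x⁻¹) := by group
        have e4 : s * (x * s⁻¹) * x⁻¹ = 1 := by rw [hxs']; group
        rw [e3, e4, mul_one]
        exact h7
      · intro x y hxy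
        exact Subtype.ext (congrArg (fun w : zpowers z => (w : H)) hxy)
    calc _ ≤ 3 * 729 ^ 3 := Nat.mul_le_mul h3 h2
      _ ≤ 4976985092 := by norm_num
  · have h3 : Nat.card {x : H // x ∈ f.ker ∧ x * s = s * x} ≤ 3 ^ 14 := by
      set C : Subgroup Q := (centralizer ({s} : Set H)).subgroupOf Q with hC
      have h4 : Nat.card {x : H // x ∈ f.ker ∧ x * s = s * x} ≤ Nat.card C := by
        refine Nat.card_le_card_of_injective (fun x => ⟨⟨x.1, by rw [← hf]; exact x.2.1⟩, ?_⟩) ?_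
        · rw [hC, mem_subgroupOf, mem_centralizer_singleton_iff]
          exact x.2.2
        · intro x y hxy
          exact Subtype.ext (congrArg (fun w : C => ((w : Q) : H)) hxy)
      refine h4.trans ?_
      have h5 : Nat.card C ∣ 3 ^ 15 := by rw [← hQ]; exact Subgroup.card_subgroup_dvd_card C
      obtain ⟨i, hi, hi2⟩ := (Nat.dvd_prime_pow Nat.prime_three).1 h5
      rw [hi2]
      apply Nat.pow_le_pow_right (by norm_num)
      by_contra h6
      have h7 : i = 15 := by omega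
      have h8 : C = ⊤ := by
        apply Subgroup.eq_top_of_card_eq
        rw [hi2, h7, hQ]
      have h9 : s ∈ Q := by
        apply FAITH
        intro x hx
        have h10 : (⟨x, hx⟩ : Q) ∈ C := by rw [h8]; trivial
        rw [hC, mem_subgroupOf, mem_centralizer_singleton_iff] at h10
        have h11 : x * s = s * x := h10
        rw [← h11, mul_inv_cancel_right, mul_inv_cancel]
        exact one_mem _
      rw [← hf, MonoidHom.mem_ker] at h9
      have h10 := e1 (fun _ => 1) (by rw [h9]; exact Matrix.one_mulVec _)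
      have h11 := congrFun h10 (Sum.inl 0)
      revert h11
      decide
    calc _ ≤ 3 ^ 14 * 729 := Nat.mul_le_mul h3 h2
      _ ≤ 4976985092 := by norm_num

/-- a 2-element commuting with `x` modulo `Q` (in the strong sense) commutes with a `Q`-conjugate of `x` -/
theorem exists_conj_comm [Finite H] (hN : Q.Normal) (hQ : Odd (Nat.card Q)) {c x q : H} (hq : q ∈ Q)
    (hc : c * q * x = x * (c * q)) {k : ℕ} (hk : c ^ 2 ^ k = 1) :
    ∃ r ∈ Q, c * (r * x * r⁻¹) = r * x * r⁻¹ * c := by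
  classical
  letI : MulAction Q H := MulAction.compHom H (MulAut.conj.comp Q.subtype)
  have hsm : ∀ (a : Q) (b : H), a • b = a * b * (a : H)⁻¹ := fun _ _ => rfl
  set Ω := MulAction.orbit Q x with hΩ
  have hodd : Odd (Nat.card Ω) := by
    have h1 : Nat.card Ω ∣ Nat.card Q := by
      rw [Nat.card_coe_set_eq, ← MulAction.index_stabilizer]
      exact Subgroup.index_dvd_card _
    exact Odd.of_dvd_nat hQ h1
  have hst : ∀ y ∈ Ω, c * y * c⁻¹ ∈ Ω := by
    rintro _ ⟨a, rfl⟩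
    -- `c = (c q) q⁻¹`
    have h1 : c * (a * x * (a : H)⁻¹) * c⁻¹ =
        ((c * (a : H) * c⁻¹) * ((c * q) * q⁻¹ * (c * q)⁻¹)) * x * ((c * (a : H) * c⁻¹) * ((c * q) * q⁻¹ * (c * q)⁻¹))⁻¹ := by
      have h2 : (c * q) * x * (c * q)⁻¹ = x := by rw [hc, mul_inv_cancel_right]
      calc c * (a * x * (a : H)⁻¹) * c⁻¹ = (c * (a : H) * c⁻¹) * ((c * q) * q⁻¹ * (c * q)⁻¹) *
            ((c * q) * x * (c * q)⁻¹) * ((c * (a : H) * c⁻¹) * ((c * q) * q⁻¹ * (c * q)⁻¹))⁻¹ := by group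
        _ = _ := by rw [h2]
    have h3 : (c * (a : H) * c⁻¹) * ((c * q) * q⁻¹ * (c * q)⁻¹) ∈ Q :=
      Q.mul_mem (hN.conj_mem _ a.2 c) (hN.conj_mem _ (Q.inv_mem hq) _)
    refine ⟨⟨_, h3⟩, ?_⟩
    exact h1.symm
  haveI : Finite Ω := Set.toFinite Ω
  letI : Fintype Ω := Fintype.ofFinite Ω
  let F : Function.End Ω := fun y => ⟨c * y.1 * c⁻¹, hst _ y.2⟩
  have hF : ∀ (n : ℕ) (y : Ω), ((F ^ n) y).1 = c ^ n * y.1 * (c ^ n)⁻¹ := by
    intro n
    induction n with
    | zero => intro y; rw [pow_zero, pow_zero, one_mul, inv_one, mul_one]; rfl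
    | succ n ih =>
      intro y
      rw [pow_succ']
      show c * ((F ^ n) y).1 * c⁻¹ = _
      rw [ih, pow_succ']
      group
  have hF1 : F ^ 2 ^ k = 1 := by
    funext y
    apply Subtype.ext
    rw [hF, hk, one_mul, inv_one, mul_one]
    rfl
  haveI : Fact (Nat.Prime 2) := ⟨Nat.prime_two⟩
  have hmod := Equiv.Perm.card_fixedPoints_modEq hF1
  have hne : Nonempty (Function.fixedPoints F) := by
    by_contra hcon
    rw [not_nonempty_iff] at hcon
    rw [Fintype.card_eq_zero_iff.2 hcon, ← Nat.card_eq_fintype_card] at hmod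
    have h1 := (Nat.modEq_zero_iff_dvd.1 hmod)
    rw [Nat.odd_iff] at hodd
    omega
  obtain ⟨⟨⟨y, a, rfl⟩, hy⟩⟩ := hne
  refine ⟨a, a.2, ?_⟩
  have h1 : c * (a * x * (a : H)⁻¹) * c⁻¹ = a * x * (a : H)⁻¹ := congrArg Subtype.val hy
  exact mul_inv_eq_iff_eq_mul.1 h1

end two

/-- the vector `e₃` -/
abbrev e3 : V6 := Pi.single (Sum.inl 2) 1

theorem om_e3 (y : V6) : om e3 y = - y (Sum.inr 2) := by
  rw [om_apply, single_one_dotProduct, Matrix.J]
  have h1 : y = Sum.elim (y ∘ Sum.inl) (y ∘ Sum.inr) := by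
    funext i
    rcases i with i | i <;> rfl
  rw [h1, Matrix.fromBlocks_mulVec]
  simp [Matrix.neg_mulVec]

theorem mulVec_inv_cancel (M : Sp) (y : V6) : M.1.mulVec ((M⁻¹).1.mulVec y) = y := by
  rw [Matrix.mulVec_mulVec]
  have h1 : M.1 * (M⁻¹).1 = 1 := congrArg Subtype.val (mul_inv_cancel M)
  rw [h1, Matrix.one_mulVec]

/-- an element with eigenvalue `±1` commutes with a transvection -/
theorem tv {H : Type v} [Group H] (f : H →* Sp) (hsurj : Function.Surjective f) {x : H} {c : ZMod 3}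
    (hT : ∀ y : V6, (f x).1.mulVec y = y + (c * y (Sum.inr 2)) • e3)
    (TR : ∀ v : V6, v ≠ 0 → ∃ A : Sp, A.1.mulVec e3 = v) {A : Sp} {v : V6} (hv : v ≠ 0)
    (hA : A.1.mulVec v = v ∨ A.1.mulVec v = -v) : ∃ h : H, A * f (h * x * h⁻¹) = f (h * x * h⁻¹) * A := by
  obtain ⟨M, hM⟩ := TR v hv
  obtain ⟨h, hh⟩ := hsurj M
  have key : ∀ y : V6, (f (h * x * h⁻¹)).1.mulVec y = y - (c * om v y) • v := by
    intro y
    rw [map_mul, map_mul, map_inv, hh]
    have e1 : (M * f x * M⁻¹).1.mulVec y = M.1.mulVec ((f x).1.mulVec ((M⁻¹).1.mulVec y)) := by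
      rw [Matrix.mulVec_mulVec, Matrix.mulVec_mulVec]
      rfl
    rw [e1, hT, Matrix.mulVec_add, mulVec_inv_cancel, Matrix.mulVec_smul, hM]
    have e2 : om v y = - ((M⁻¹).1.mulVec y) (Sum.inr 2) := by
      rw [← om_e3, ← om_inv M e3, hM, mulVec_inv_cancel]
    rw [e2]
    module
  refine ⟨h, lm_inj ?_⟩
  apply LinearMap.ext
  intro y
  rw [lm_mul, lm_mul, Module.End.mul_apply, Module.End.mul_apply, lm_apply, lm_apply, lm_apply, lm_apply, key, key,
    Matrix.mulVec_sub, Matrix.mulVec_smul]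
  rcases hA with hA | hA
  · have e1 : om v (A.1.mulVec y) = om v y := by
      nth_rewrite 1 [← hA]
      exact om_inv A v y
    rw [e1, hA]
  · have e1 : om v (A.1.mulVec y) = - om v y := by
      have e2 : om (-v) (A.1.mulVec y) = om v y := by
        rw [← hA]
        exact om_inv A v y
      rw [map_neg, LinearMap.neg_apply] at e2
      rw [← e2, neg_neg]
    rw [e1, hA]
    module

section main

variable {G : Type v} [Group G]

/-- **Mixed elements of `H = C(z)`.** -/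
theorem mixed_all [Finite G] {P : G → Prop} (CJ : ∀ x g : G, P (x * g * x⁻¹) → P g) {H : Subgroup G} {z : H}
    (hH : ∀ g : G, g ∈ H ↔ g * z = z * g) {Q : Subgroup H} (h : XS 3 Q z)
    (hQ : Nat.card Q = 3 ^ 15) (f : H →* Sp) (hf : f.ker = Q) (hsurj : Function.Surjective f)
    {t : H} (ht : f t = ng)
    (STEP : ∀ g : H, g ∉ Q → t⁻¹ * g ∉ Q →
      ((∃ q ∈ Q, g * q * g⁻¹ * q⁻¹ ∈ zpowers z ∧ g * q * g⁻¹ * q⁻¹ ≠ 1) ∨ Nat.card (FixX Q z g) ≤ 3 ^ 9) → P g)
    (F9 : ∀ (u : H) (k : ℕ), u ^ 3 ^ k = 1 → u ∉ Q → Nat.card (FixX Q z u) ≤ 3 ^ 10)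
    (INV : ∀ x ∈ Q, t * x * t⁻¹ * x⁻¹ ∈ zpowers z → x ∈ zpowers z)
    (FAITH : ∀ g : H, (∀ x ∈ Q, g * x * g⁻¹ * x⁻¹ ∈ zpowers z) → g ∈ Q)
    (SMALL : ∀ g : G, Nat.card (centralizer ({g} : Set G)) ≤ 4976985092 → P g)
    (E2 : ∀ (s w : H) (k : ℕ), s ^ 2 ^ k = 1 → t⁻¹ * s ∈ Q → w ∈ zpowers z → P (s * w))
    {xb : H} {c : ZMod 3} (hc0 : c ≠ 0)
    (hT : ∀ y : V6, (f xb).1.mulVec y = y + (c * y (Sum.inr 2)) • e3)
    (TR : ∀ v : V6, v ≠ 0 → ∃ A : Sp, A.1.mulVec e3 = v)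
    (KK : ∀ c : H, f c * f xb = f xb * f c → ∃ q ∈ Q, c * q * xb = xb * (c * q))
    {n : G} (n1 : n * xb * n⁻¹ = z) (n2 : n * z * n⁻¹ = xb)
    {s u : H} {k j : ℕ} (hs : s ^ 2 ^ k = 1) (hu : u ^ 3 ^ j = 1) (hc : s * u = u * s)
    (hs1 : s ≠ 1) (hu1 : u ≠ 1) : P (s * u) := by
  have hm : ∀ k : ℕ, (2 ^ k).Coprime 3 := fun k => Nat.Coprime.pow_left k (by norm_num)
  have T2 : t * t ∈ Q := by
    rw [← hf, MonoidHom.mem_ker, map_mul, ht]
    apply lm_inj
    rw [lm_mul, lm_ng, lm_one]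
    apply LinearMap.ext
    intro y
    exact neg_neg y
  have hQ2 : Odd (Nat.card Q) := by rw [hQ]; exact Odd.pow (by decide)
  have hzQ : ∀ w ∈ zpowers z, w ∈ Q := fun w hw => h.z_le hw
  have hz3 : z ^ 3 = 1 := by rw [← h.ord, pow_orderOf_eq_one]
  have core : ∀ (s u : H) (k j : ℕ), s ^ 2 ^ k = 1 → u ^ 3 ^ j = 1 → s * u = u * s →
      s ≠ 1 → (u ∈ zpowers z → P ((s * u : H) : G)) → P ((s * u : H) : G) := by
    intro s u k j hs hu hc hs1 hcen
    exact mixed' (P := fun g : H => P (g : G)) h STEP F9 INV FAITH T2 hcen hs (hm k) hu hc hs1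
  rw [← Subgroup.coe_mul]
  refine core s u k j hs hu hc hs1 ?_
  intro huz
  have hu2 : u = z ∨ u = z⁻¹ := by
    obtain ⟨i, hi⟩ := huz
    have hi' : z ^ i = u := hi
    obtain ⟨a, ha⟩ : ∃ a : ℤ, i = 3 * a ∨ i = 3 * a + 1 ∨ i = 3 * a - 1 := by
      have h1 : i % 3 = 0 ∨ i % 3 = 1 ∨ i % 3 = 2 := by omega
      rcases h1 with h1 | h1 | h1
      · exact ⟨i / 3, by omega⟩
      · exact ⟨i / 3, by omega⟩
      · exact ⟨i / 3 + 1, by omega⟩
    have h3 : z ^ (3 * a) = 1 := by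
      rw [_root_.zpow_mul]
      have : z ^ (3 : ℤ) = 1 := by exact_mod_cast hz3
      rw [this, _root_.one_zpow]
    rcases ha with rfl | rfl | rfl
    · exact absurd (by rw [← hi', h3]) hu1
    · left
      rw [← hi', _root_.zpow_add, h3, one_mul, zpow_one]
    · right
      rw [← hi', _root_.zpow_sub, h3, one_mul, zpow_one]
  by_cases hng : t⁻¹ * s ∈ Q
  · exact E2 s u k hs hng huz
  have hcomz : ∀ a : H, (a : G) * z = z * a := fun a => (hH a).1 a.2
  by_cases hev : ∃ v : V6, v ≠ 0 ∧ ((f s).1.mulVec v = v ∨ (f s).1.mulVec v = -v)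
  · -- eigenvalue `±1`
    obtain ⟨v, hv, hv2⟩ := hev
    obtain ⟨h0, hh0⟩ := tv f hsurj hT TR hv hv2
    set d := h0⁻¹ * s * h0 with hd
    have hd1 : f d * f xb = f xb * f d := by
      rw [map_mul, map_mul, map_inv] at hh0
      rw [hd, map_mul, map_mul, map_inv]
      calc (f h0)⁻¹ * f s * f h0 * f xb = (f h0)⁻¹ * (f s * (f h0 * f xb * (f h0)⁻¹)) * f h0 := by group
        _ = (f h0)⁻¹ * (f h0 * f xb * (f h0)⁻¹ * f s) * f h0 := by rw [hh0]
        _ = _ := by group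
    obtain ⟨q, hq, hdq⟩ := KK d hd1
    have hdk : d ^ 2 ^ k = 1 := by
      have e : d = h0⁻¹ * s * (h0⁻¹)⁻¹ := by rw [hd, inv_inv]
      rw [e, conj_pow, hs, mul_one, mul_inv_cancel]
    obtain ⟨r, hr, hdr⟩ := exists_conj_comm h.normal hQ2 hq hdq hdk
    -- `g1 = h0 r`
    set g1 := h0 * r with hg1
    have hsg : s * (g1 * xb * g1⁻¹) = g1 * xb * g1⁻¹ * s := by
      have e1 : s = h0 * d * h0⁻¹ := by rw [hd]; group
      calc s * (g1 * xb * g1⁻¹) = h0 * (d * (r * xb * r⁻¹)) * h0⁻¹ := by rw [hg1, e1]; group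
        _ = h0 * (r * xb * r⁻¹ * d) * h0⁻¹ := by rw [hdr]
        _ = _ := by rw [hg1, e1]; group
    have hsg' : (s : G) * ((g1 : G) * xb * (g1 : G)⁻¹) = (g1 : G) * xb * (g1 : G)⁻¹ * s := congrArg Subtype.val hsg
    set m : G := n * (g1 : G)⁻¹ with hmdef
    have hz1 : m * z * m⁻¹ = xb := by
      have e1 : (g1 : G)⁻¹ * z * g1 = z := by rw [mul_assoc, ← hcomz, ← mul_assoc, inv_mul_cancel, one_mul]
      calc m * z * m⁻¹ = n * ((g1 : G)⁻¹ * z * g1) * n⁻¹ := by rw [hmdef]; group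
        _ = _ := by rw [e1, n2]
    have hz2 : (z : G) = m * ((g1 : G) * xb * (g1 : G)⁻¹) * m⁻¹ := by
      rw [← n1, hmdef]; group
    have hsH : m * s * m⁻¹ ∈ H := by
      rw [hH]
      calc m * s * m⁻¹ * z = m * (s * ((g1 : G) * xb * (g1 : G)⁻¹)) * m⁻¹ := by
            rw [hz2]; group
        _ = m * ((g1 : G) * xb * (g1 : G)⁻¹ * s) * m⁻¹ := by rw [hsg']
        _ = z * (m * s * m⁻¹) := by
            rw [hz2]
            group
    have hxb3 : xb ^ 3 = 1 := by
      apply Subtype.ext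
      show (xb : G) ^ 3 = 1
      rw [← hz1, conj_pow]
      have e1 : (z : G) ^ 3 = 1 := congrArg Subtype.val hz3
      rw [e1, mul_one, mul_inv_cancel]
    have hxbQ : xb ∉ Q := by
      intro hx
      rw [← hf, MonoidHom.mem_ker] at hx
      have h1 := hT (Pi.single (Sum.inr 2) 1)
      rw [hx] at h1
      have h2 : (1 : Sp).1.mulVec (Pi.single (Sum.inr 2) 1 : V6) = Pi.single (Sum.inr 2) 1 := Matrix.one_mulVec _
      rw [h2] at h1
      have h3 := congrFun h1 (Sum.inl 2)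
      simp at h3
      exact hc0 h3.symm
    obtain ⟨u', hu', hu3, huQ⟩ : ∃ u' : H, (u' : G) = m * u * m⁻¹ ∧ u' ^ 3 ^ 1 = 1 ∧ u' ∉ Q := by
      rcases hu2 with rfl | rfl
      · exact ⟨xb, hz1.symm, by rw [pow_one]; exact hxb3, hxbQ⟩
      · refine ⟨xb⁻¹, ?_, ?_, fun hx => hxbQ (by simpa using Q.inv_mem hx)⟩
        · rw [Subgroup.coe_inv, Subgroup.coe_inv, ← hz1]
          group
        · rw [pow_one, inv_pow, hxb3, inv_one]
    apply CJ m
    have e1 : m * ((s * u : H) : G) * m⁻¹ = (((⟨m * s * m⁻¹, hsH⟩ : H) * u' : H) : G) := by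
      rw [Subgroup.coe_mul, Subgroup.coe_mul, hu']
      group
    rw [e1]
    refine core _ _ k 1 ?_ hu3 ?_ ?_ (fun hx => absurd (hzQ _ hx) huQ)
    · apply Subtype.ext
      show (m * s * m⁻¹) ^ 2 ^ k = 1
      have e2 : (s : G) ^ 2 ^ k = 1 := congrArg Subtype.val hs
      rw [conj_pow, e2, mul_one, mul_inv_cancel]
    · apply Subtype.ext
      show m * s * m⁻¹ * u' = u' * (m * s * m⁻¹)
      have e2 : (s : G) * u = u * s := congrArg Subtype.val hc
      rw [hu']
      calc m * s * m⁻¹ * (m * u * m⁻¹) = m * (s * u) * m⁻¹ := by group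
        _ = m * (u * s) * m⁻¹ := by rw [e2]
        _ = _ := by group
    · intro hx
      apply hs1
      have e2 : m * s * m⁻¹ = 1 := congrArg Subtype.val hx
      apply Subtype.ext
      have e3 : (s : G) = m⁻¹ * (m * s * m⁻¹) * m := by group
      rw [e3, e2, mul_one, inv_mul_cancel]
      rfl
  · -- no eigenvalue
    push Not at hev
    apply SMALL
    have hle := card_cent_le h hQ f hf ht INV FAITH hs (fun x hx => by
      by_contra hx0
      exact (hev x hx0).1 hx) (fun x hx => by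
      by_contra hx0
      exact (hev x hx0).2 hx)
    refine le_trans ?_ hle
    obtain ⟨⟨a, ha⟩, ⟨b, hb⟩⟩ := exists_pows hs hu ((hm k).pow_right j |>.pow_left 1 |> fun _ => Nat.Coprime.pow k j (by norm_num)) hc
    have hcs : ∀ g ∈ centralizer ({((s * u : H) : G)} : Set G), g * (s : G) = s * g ∧ g * z = z * g := by
      intro g hg
      rw [mem_centralizer_singleton_iff] at hg
      have hg' : Commute g ((s * u : H) : G) := hg
      have h1 : Commute g (s : G) := by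
        have h2 := hg'.pow_right a
        rw [← Subgroup.coe_pow, ha] at h2
        exact h2
      have h2 : Commute g (u : G) := by
        have h2 := hg'.pow_right b
        rw [← Subgroup.coe_pow, hb] at h2
        exact h2
      refine ⟨h1, ?_⟩
      rcases hu2 with rfl | rfl
      · exact h2
      · have h3 := h2.inv_right
        rw [Subgroup.coe_inv, inv_inv] at h3
        exact h3
    refine Nat.card_le_card_of_injective (fun g => ⟨⟨g.1, (hH _).2 (hcs g.1 g.2).2⟩, ?_⟩) ?_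
    · rw [mem_centralizer_singleton_iff]
      exact Subtype.ext (hcs g.1 g.2).1
    · intro x y hxy
      exact Subtype.ext (congrArg (fun w : H => (w : G)) (Subtype.mk.inj hxy))

end main

end Cfsg.Agent.H98.Pw
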