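import Cfsg.Agent.H323.Pw.Coset

/-!
# The coset lemma for products, extraspecial kernel with centre of order 3 (helper98, for S2465)

`Q ⊴ H`, `z ∈ Q` central of order 3, `V = Q / ⟨z⟩` elementary abelian, commutator form nondegenerate.
* `E3.step_hom` : if every `V`-coset is covered and `g` is conjugate to `g z` under `Q`, then `g` is a product;
* `E3.step_card` : `|FixZ a| |FixZ b| |FixZ (a b)| < 3 |Q|` suffices (rank of a quadratic form at least 2).
-/

set_option autoImplicit false

namespace Cfsg.Agent.H98.Pw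

open Module

/-! ### Quadratic functions over `F_3` -/

section quad

variable {W : Type*} [AddCommGroup W] [Module (ZMod 3) W]

theorem plane_aux : ∀ c x y p q t : ZMod 3, 0 ≠ c → x ≠ c → y ≠ c → x + x + p ≠ c → y + y + q ≠ c → x + y + t ≠ c →
    x + x + p + y + (t + t) ≠ c → x + (y + y + q) + (t + t) ≠ c → x + x + p + (y + y + q) + (t + t + (t + t)) ≠ c →
    t * t = p * q := by decide +kernel

/-- values on the plane spanned by `r, s` -/
theorem quad_plane (f : W → ZMod 3) (B : W → W → ZMod 3) (h0 : ∀ r s, f (r + s) = f r + f s + B r s)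
    (hl : ∀ r r' s, B (r + r') s = B r s + B r' s) (hr : ∀ r s s', B r (s + s') = B r s + B r s')
    {c : ZMod 3} (hc : ∀ r, f r ≠ c) (r s : W) : B r s * B r s = B r r * B s s := by
  have hs : ∀ r s, B r s = B s r := by
    intro r s
    have h1 := h0 r s
    have h2 := h0 s r
    rw [add_comm s r] at h2
    rw [h2] at h1
    have h3 : f s + f r + B s r - (f r + f s) = f r + f s + B r s - (f r + f s) := by rw [h1]
    have h4 : B s r = B r s := by
      have e1 : f s + f r + B s r - (f r + f s) = B s r := by ring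
      have e2 : f r + f s + B r s - (f r + f s) = B r s := by ring
      rw [e1, e2] at h3
      exact h3
    exact h4.symm
  have f0 : f 0 = 0 := by
    have h1 := h0 0 0
    have h2 : B 0 0 = 0 := by
      have h3 := hl 0 0 0
      rw [add_zero] at h3
      exact left_eq_add.1 h3
    rw [add_zero, h2, add_zero] at h1
    exact left_eq_add.1 h1
  have e1 := h0 r r
  have e2 := h0 s s
  have e3 := h0 r s
  have e4 := h0 (r + r) s
  have e5 := h0 r (s + s)
  have e6 := h0 (r + r) (s + s)
  rw [hl] at e4 e6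
  rw [hr] at e5
  rw [hr] at e6
  have n0 := hc 0
  have n1 := hc r
  have n2 := hc s
  have n3 := hc (r + r)
  have n4 := hc (s + s)
  have n5 := hc (r + s)
  have n6 := hc (r + r + s)
  have n7 := hc (r + (s + s))
  have n8 := hc (r + r + (s + s))
  rw [f0] at n0
  rw [e1] at n3
  rw [e2] at n4
  rw [e3] at n5
  rw [e4, e1] at n6
  rw [e5, e2] at n7
  rw [e6, e1, e2] at n8
  generalize f r = x at *
  generalize f s = y at *
  generalize B r r = p at *
  generalize B s s = q at *
  generalize B r s = t at *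
  clear e1 e2 e3 e4 e5 e6 f0 hc hs h0 hl hr
  exact plane_aux c x y p q t n0 n1 n2 n3 n4 n5 n6 n7 n8

/-- a quadratic function which misses a value has rank at most 1 -/
theorem quad_rank [FiniteDimensional (ZMod 3) W] (f : W → ZMod 3) (B : W →ₗ[ZMod 3] W →ₗ[ZMod 3] ZMod 3)
    (h0 : ∀ r s, f (r + s) = f r + f s + B r s) {c : ZMod 3} (hc : ∀ r, f r ≠ c) :
    finrank (ZMod 3) W ≤ finrank (ZMod 3) (LinearMap.ker B) + 1 := by
  have key : ∀ r s, B r s * B r s = B r r * B s s :=
    quad_plane f (fun r s => B r s) h0 (fun r r' s => by rw [map_add, LinearMap.add_apply])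
      (fun r s s' => by rw [map_add]) hc
  have hs : ∀ r s, B r s = B s r := by
    intro r s
    have h1 := h0 r s
    rw [add_comm r s, h0 s r] at h1
    have h3 : f s + f r + B s r - (f r + f s) = f r + f s + B r s - (f r + f s) := by rw [h1]
    have e1 : f s + f r + B s r - (f r + f s) = B s r := by ring
    have e2 : f r + f s + B r s - (f r + f s) = B r s := by ring
    rw [e1, e2] at h3
    exact h3.symm
  have h1 := LinearMap.finrank_range_add_finrank_ker B
  suffices h2 : finrank (ZMod 3) (LinearMap.range B) ≤ 1 by omega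
  by_cases hz : ∀ r, B r r = 0
  · have hB : B = 0 := by
      ext r s
      have h3 := key r s
      rw [hz, zero_mul, mul_self_eq_zero] at h3
      simpa using h3
    rw [hB, LinearMap.range_zero, finrank_bot]
    exact Nat.zero_le _
  · push Not at hz
    obtain ⟨r, hr⟩ := hz
    have h3 : LinearMap.range B ≤ Submodule.span (ZMod 3) {B r} := by
      rintro _ ⟨s, rfl⟩
      rw [Submodule.mem_span_singleton]
      set d := B s r * (B r r)⁻¹ with hd
      refine ⟨d, ?_⟩
      have h4 : B (s - d • r) r = 0 := by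
        rw [map_sub, map_smul, LinearMap.sub_apply, LinearMap.smul_apply, smul_eq_mul, hd, mul_assoc,
          inv_mul_cancel₀ hr, mul_one, sub_self]
      have h5 : B (s - d • r) (s - d • r) = 0 := by
        have h6 := key r (s - d • r)
        rw [hs r, h4, mul_zero] at h6
        rcases mul_eq_zero.1 h6.symm with h7 | h7
        · exact absurd h7 hr
        · exact h7
      have h6 : B (s - d • r) = 0 := by
        ext t
        have h7 := key (s - d • r) t
        rw [h5, zero_mul, mul_self_eq_zero] at h7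
        simpa using h7
      rw [map_sub, map_smul, sub_eq_zero] at h6
      exact h6.symm
    exact (Submodule.finrank_mono h3).trans (finrank_span_le_card _ |>.trans (by simp))

end quad

/-! ### The linear algebra -/

section lin

variable {V : Type*} [AddCommGroup V] [Module (ZMod 3) V] [FiniteDimensional (ZMod 3) V]

/-- `α, β, γ` = actions of `a`, `b`, `a b`; `K = {(r₁, r₂) : r₁ - a r₁ + (a r₂ - a b r₂) = 0}` -/
theorem rank3 (ω : V →ₗ[ZMod 3] V →ₗ[ZMod 3] ZMod 3) (hnd : ∀ u, (∀ v, ω u v = 0) → u = 0)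
    (α β γ : V →ₗ[ZMod 3] V) (e : ∀ x, γ x = α (β x))
    (hφ : ∀ w, ∃ r₁ r₂, r₁ - α r₁ + (α r₂ - γ r₂) = w)
    (f : V → V → ZMod 3) {c : ZMod 3}
    (hf : ∀ q₁ q₂ r₁ r₂, q₁ - α q₁ + (α q₂ - γ q₂) = 0 → r₁ - α r₁ + (α r₂ - γ r₂) = 0 →
      f (q₁ + r₁) (q₂ + r₂) = f q₁ q₂ + f r₁ r₂ + ω (q₂ - q₁) (r₂ - β r₂))
    (hc : ∀ r₁ r₂, r₁ - α r₁ + (α r₂ - γ r₂) = 0 → f r₁ r₂ ≠ c) :
    finrank (ZMod 3) V ≤ finrank (ZMod 3) (LinearMap.ker (LinearMap.id - α)) +
      finrank (ZMod 3) (LinearMap.ker (LinearMap.id - β)) +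
      finrank (ZMod 3) (LinearMap.ker (LinearMap.id - γ)) + 1 := by
  classical
  let φ : V × V →ₗ[ZMod 3] V :=
    (LinearMap.id - α).comp (LinearMap.fst _ V V) + (α - γ).comp (LinearMap.snd _ V V)
  have hφa : ∀ r : V × V, φ r = r.1 - α r.1 + (α r.2 - γ r.2) := fun r => rfl
  have hsurj : Function.Surjective φ := by
    intro w
    obtain ⟨r₁, r₂, h⟩ := hφ w
    exact ⟨(r₁, r₂), h⟩
  have hK : finrank (ZMod 3) (LinearMap.ker φ) = finrank (ZMod 3) V := by
    have h2 := LinearMap.finrank_range_add_finrank_ker φ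
    rw [LinearMap.range_eq_top.2 hsurj, finrank_top, Module.finrank_prod] at h2
    omega
  let s : LinearMap.ker φ →ₗ[ZMod 3] V :=
    (LinearMap.snd _ V V - LinearMap.fst _ V V).comp (LinearMap.ker φ).subtype
  let t : LinearMap.ker φ →ₗ[ZMod 3] V :=
    ((LinearMap.id - β).comp (LinearMap.snd _ V V)).comp (LinearMap.ker φ).subtype
  have hs : ∀ r : LinearMap.ker φ, s r = r.1.2 - r.1.1 := fun r => rfl
  have ht : ∀ r : LinearMap.ker φ, t r = r.1.2 - β r.1.2 := fun r => rfl
  have hrs := LinearMap.finrank_range_add_finrank_ker s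
  have hrt := LinearMap.finrank_range_add_finrank_ker t
  rw [hK] at hrs hrt
  -- the form
  let B : LinearMap.ker φ →ₗ[ZMod 3] LinearMap.ker φ →ₗ[ZMod 3] ZMod 3 :=
    (ω.compl₂ t).comp s
  have hBa : ∀ q r : LinearMap.ker φ, B q r = ω (q.1.2 - q.1.1) (r.1.2 - β r.1.2) := fun q r => rfl
  have hker : ∀ r : LinearMap.ker φ, r.1.1 - α r.1.1 + (α r.1.2 - γ r.1.2) = 0 := fun r => r.2
  have hq := quad_rank (fun r : LinearMap.ker φ => f r.1.1 r.1.2) B
    (fun q r => by rw [hBa]; exact hf _ _ _ _ (hker q) (hker r)) (c := c) (fun r => hc _ _ (hker r))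
  rw [hK] at hq
  -- kernels
  have hks : finrank (ZMod 3) (LinearMap.ker s) ≤ finrank (ZMod 3) (LinearMap.ker (LinearMap.id - γ)) := by
    have hmem : ∀ r : LinearMap.ker s, r.1.1.1 ∈ LinearMap.ker (LinearMap.id - γ) := by
      rintro ⟨⟨⟨x, y⟩, hr⟩, hr2⟩
      have h1 : y - x = 0 := hr2
      have h2 : y = x := sub_eq_zero.1 h1
      subst h2
      rw [LinearMap.mem_ker, hφa] at hr
      show y - γ y = 0
      have e3 : y - α y + (α y - γ y) = y - γ y := by abel
      rw [← e3]
      exact hr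
    let g : LinearMap.ker s →ₗ[ZMod 3] LinearMap.ker (LinearMap.id - γ) :=
      LinearMap.codRestrict _ ((LinearMap.fst _ V V).comp
        ((LinearMap.ker φ).subtype.comp (LinearMap.ker s).subtype)) hmem
    refine LinearMap.finrank_le_finrank_of_injective (f := g) ?_
    rintro ⟨⟨⟨x, y⟩, hr⟩, hr2⟩ ⟨⟨⟨x', y'⟩, hr'⟩, hr2'⟩ hg
    have h0 : x = x' := congrArg Subtype.val hg
    have h1 : y = x := sub_eq_zero.1 hr2
    have h1' : y' = x' := sub_eq_zero.1 hr2'
    subst h0 h1 h1'
    rfl
  have hkt : finrank (ZMod 3) (LinearMap.ker t) ≤ finrank (ZMod 3) (LinearMap.ker (LinearMap.id - α)) +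
      finrank (ZMod 3) (LinearMap.ker (LinearMap.id - β)) := by
    have hmem1 : ∀ r : LinearMap.ker t, r.1.1.1 ∈ LinearMap.ker (LinearMap.id - α) := by
      rintro ⟨⟨⟨x, y⟩, hr⟩, hr2⟩
      have h1 : y - β y = 0 := hr2
      have h2 : y = β y := sub_eq_zero.1 h1
      rw [LinearMap.mem_ker, hφa] at hr
      show x - α x = 0
      have h3 : γ y = α y := by rw [e, ← h2]
      have e3 : x - α x + (α y - γ y) = x - α x := by rw [h3, sub_self, add_zero]
      rw [← e3]
      exact hr
    have hmem2 : ∀ r : LinearMap.ker t, r.1.1.2 ∈ LinearMap.ker (LinearMap.id - β) := by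
      rintro ⟨⟨⟨x, y⟩, hr⟩, hr2⟩
      exact hr2
    let g : LinearMap.ker t →ₗ[ZMod 3] LinearMap.ker (LinearMap.id - α) × LinearMap.ker (LinearMap.id - β) :=
      LinearMap.prod
        (LinearMap.codRestrict _ ((LinearMap.fst _ V V).comp
          ((LinearMap.ker φ).subtype.comp (LinearMap.ker t).subtype)) hmem1)
        (LinearMap.codRestrict _ ((LinearMap.snd _ V V).comp
          ((LinearMap.ker φ).subtype.comp (LinearMap.ker t).subtype)) hmem2)
    rw [← Module.finrank_prod]
    refine LinearMap.finrank_le_finrank_of_injective (f := g) ?_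
    rintro ⟨⟨⟨x, y⟩, hr⟩, hr2⟩ ⟨⟨⟨x', y'⟩, hr'⟩, hr2'⟩ hg
    have h0 : x = x' := congrArg (fun p => (p.1 : V)) hg
    have h1 : y = y' := congrArg (fun p => (p.2 : V)) hg
    subst h0 h1
    rfl
  -- the radical
  let s' : LinearMap.ker B →ₗ[ZMod 3] V := s.comp (LinearMap.ker B).subtype
  have hrs' := LinearMap.finrank_range_add_finrank_ker s'
  have hks' : finrank (ZMod 3) (LinearMap.ker s') ≤ finrank (ZMod 3) (LinearMap.ker s) := by
    let g : LinearMap.ker s' →ₗ[ZMod 3] LinearMap.ker s :=
      LinearMap.codRestrict _ ((LinearMap.ker B).subtype.comp (LinearMap.ker s').subtype) (fun r => r.2)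
    refine LinearMap.finrank_le_finrank_of_injective (f := g) ?_
    intro x y hxy
    have h3 : (x : LinearMap.ker B).1 = (y : LinearMap.ker B).1 := congrArg (fun w : LinearMap.ker s => w.1) hxy
    exact Subtype.ext (Subtype.ext h3)
  have horth : (LinearMap.range s').map (ω : V →ₗ[ZMod 3] Dual (ZMod 3) V) ≤
      (LinearMap.range t).dualAnnihilator := by
    rintro _ ⟨_, ⟨r, rfl⟩, rfl⟩
    rw [Submodule.mem_dualAnnihilator]
    rintro _ ⟨q, rfl⟩
    have h1 : B r.1 = 0 := r.2
    have h2 : B r.1 q = 0 := by rw [h1]; rfl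
    exact h2
  have hωinj : Function.Injective (ω : V →ₗ[ZMod 3] Dual (ZMod 3) V) := by
    intro u v huv
    have h3 : ∀ w, ω (u - v) w = 0 := by
      intro w
      have := LinearMap.congr_fun huv w
      rw [map_sub, LinearMap.sub_apply]
      exact sub_eq_zero.2 this
    exact sub_eq_zero.1 (hnd _ h3)
  have h1 := Submodule.finrank_mono horth
  rw [← (Submodule.equivMapOfInjective (ω : V →ₗ[ZMod 3] Dual (ZMod 3) V) hωinj (LinearMap.range s')).finrank_eq] at h1
  have h1' : finrank (ZMod 3) (LinearMap.range s') ≤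
      finrank (ZMod 3) ((LinearMap.range t).dualAnnihilator : Submodule (ZMod 3) (Dual (ZMod 3) V)) := h1
  have h2 : finrank (ZMod 3) (LinearMap.range t) +
      finrank (ZMod 3) ((LinearMap.range t).dualAnnihilator : Submodule (ZMod 3) (Dual (ZMod 3) V)) =
      finrank (ZMod 3) V := Subspace.finrank_add_finrank_dualAnnihilator_eq (LinearMap.range t)
  clear h1
  omega

end lin

end Cfsg.Agent.H98.Pw
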