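import Cfsg.Agent.H98.Pw.AxB

/-!
# Elements `s u` of `Q : L`, `Q` extraspecial of exponent 3 with centre `⟨z⟩ ≤ Z(H)` (helper98, for S2465, F4(3))

`s` of order prime to 3, `u` of 3-power order, `s u = u s`.
* `X3.hom_ne` : `u ∈ Q \ ⟨z⟩` : some `q ∈ Q` has `[s u, q] ∈ ⟨z⟩ \ 1`;
* `X3.fix_lt` : `u ∉ Q`, `s` nontrivial on `Q / ⟨z⟩` : `3 |F (s u)| ≤ |F u|`;
* `X3.mixed` : the reduction.
-/

set_option autoImplicit false

namespace Cfsg.Agent.H98.Pw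

open Module Subgroup

universe v

/-- fields of helper323's `XS 3` -/
structure X3 {H : Type*} [Group H] (Q : Subgroup H) (z : H) : Prop where
  normal : Q.Normal
  mem : z ∈ Q
  ord : orderOf z = 3
  central : ∀ h : H, h * z = z * h
  comm : ∀ x ∈ Q, ∀ y ∈ Q, x * y * x⁻¹ * y⁻¹ ∈ zpowers z
  pow : ∀ x ∈ Q, x ^ 3 ∈ zpowers z
  nd : ∀ x ∈ Q, (∀ y ∈ Q, x * y = y * x) → x ∈ zpowers z

variable {H : Type v} [Group H] {Q : Subgroup H} {z : H}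

theorem X3.z_pow (h : X3 Q z) {w : H} (hw : w ∈ zpowers z) : w ^ 3 = 1 := by
  obtain ⟨n, rfl⟩ := hw
  show (z ^ n) ^ 3 = 1
  rw [← zpow_natCast, ← zpow_mul, mul_comm, zpow_mul, zpow_natCast]
  have h1 : z ^ 3 = 1 := by rw [← h.ord, pow_orderOf_eq_one]
  rw [h1, one_zpow]

theorem X3.z_comm (h : X3 Q z) {w : H} (hw : w ∈ zpowers z) (g : H) : g * w = w * g := by
  obtain ⟨n, rfl⟩ := hw
  have h1 : Commute g z := h.central g
  exact h1.zpow_right n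

theorem X3.zQ (h : X3 Q z) {w : H} (hw : w ∈ zpowers z) : w ∈ Q := by
  obtain ⟨n, rfl⟩ := hw
  exact Q.zpow_mem h.mem n

theorem eq_one_of_coprime {w : H} {m : ℕ} (h3 : w ^ 3 = 1) (hm : m.Coprime 3) (h : w ^ m = 1) : w = 1 := by
  rw [← orderOf_eq_one_iff]
  have h1 := orderOf_dvd_of_pow_eq_one h3
  have h2 := orderOf_dvd_of_pow_eq_one h
  exact Nat.dvd_one.1 (hm ▸ Nat.dvd_gcd h2 h1)

theorem X3.conj_pow (h : X3 Q z) {g x w : H} (hw : w ∈ zpowers z) (hx : g * x * g⁻¹ = w * x) (n : ℕ) :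
    g ^ n * x * (g ^ n)⁻¹ = w ^ n * x := by
  induction n with
  | zero => simp
  | succ n ih =>
    calc g ^ (n + 1) * x * (g ^ (n + 1))⁻¹ = g * (g ^ n * x * (g ^ n)⁻¹) * g⁻¹ := by rw [pow_succ']; group
      _ = (g * w ^ n) * x * g⁻¹ := by rw [ih]; group
      _ = (w ^ n * g) * x * g⁻¹ := by rw [h.z_comm (Subgroup.pow_mem _ hw n) g]
      _ = w ^ n * (g * x * g⁻¹) := by group
      _ = w ^ (n + 1) * x := by rw [hx, pow_succ]; group

/-- coprime action: fixed modulo `⟨z⟩` implies fixed -/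
theorem X3.fix_exact (h : X3 Q z) {s q : H} {m : ℕ} (hs : s ^ m = 1) (hm : m.Coprime 3)
    (hq : s * q * s⁻¹ * q⁻¹ ∈ zpowers z) : s * q = q * s := by
  set w := s * q * s⁻¹ * q⁻¹ with hw
  have h1 : s * q * s⁻¹ = w * q := by rw [hw]; group
  have h2 := h.conj_pow hq h1 m
  rw [hs] at h2
  have h3 : w ^ m = 1 := by
    have h4 : q = w ^ m * q := by simpa using h2
    exact (mul_eq_right.1 h4.symm)
  have h4 := eq_one_of_coprime (h.z_pow hq) hm h3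
  rw [h4, one_mul] at h1
  exact mul_inv_eq_iff_eq_mul.1 h1

/-- the commutator with `u ∈ Q` as a homomorphism -/
theorem X3.kap_mul (h : X3 Q z) {u x y : H} (hu : u ∈ Q) (hx : x ∈ Q) (hy : y ∈ Q) :
    u * (x * y) * u⁻¹ * (x * y)⁻¹ = (u * x * u⁻¹ * x⁻¹) * (u * y * u⁻¹ * y⁻¹) := by
  have h1 := h.z_comm (h.comm u hu y hy) x
  calc u * (x * y) * u⁻¹ * (x * y)⁻¹ = (u * x * u⁻¹ * x⁻¹) * (x * (u * y * u⁻¹ * y⁻¹)) * x⁻¹ := by group
    _ = _ := by rw [h1]; group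

/-- partial products of the `s`-conjugates of `q` -/
def cprod (s q : H) : ℕ → H
  | 0 => 1
  | n + 1 => cprod s q n * (s ^ n * q * (s ^ n)⁻¹)

theorem X3.cprod_mem (h : X3 Q z) {s q : H} (hq : q ∈ Q) (n : ℕ) : cprod s q n ∈ Q := by
  induction n with
  | zero => exact Q.one_mem
  | succ n ih => exact Q.mul_mem ih (h.normal.conj_mem q hq _)

/-- `q ↦` product of conjugates: commutator with a commuting `u ∈ Q` -/
theorem X3.cprod_kap (h : X3 Q z) {s u q : H} (hu : u ∈ Q) (hq : q ∈ Q) (hc : s * u = u * s) (n : ℕ) :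
    u * cprod s q n * u⁻¹ * (cprod s q n)⁻¹ = (u * q * u⁻¹ * q⁻¹) ^ n := by
  induction n with
  | zero => simp [cprod]
  | succ n ih =>
    rw [cprod, h.kap_mul hu (h.cprod_mem hq n) (h.normal.conj_mem q hq _), ih, pow_succ]
    congr 1
    have h1 : Commute (s ^ n) u := Commute.pow_left hc n
    have h2 : (s ^ n)⁻¹ * u = u * (s ^ n)⁻¹ := h1.inv_left.eq
    have h3 : (s ^ n)⁻¹ * u⁻¹ = u⁻¹ * (s ^ n)⁻¹ := h1.inv_inv.eq
    calc u * (s ^ n * q * (s ^ n)⁻¹) * u⁻¹ * (s ^ n * q * (s ^ n)⁻¹)⁻¹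
        = (u * s ^ n) * q * ((s ^ n)⁻¹ * u⁻¹) * s ^ n * q⁻¹ * (s ^ n)⁻¹ := by group
      _ = (s ^ n * u) * q * (u⁻¹ * (s ^ n)⁻¹) * s ^ n * q⁻¹ * (s ^ n)⁻¹ := by rw [h3, ← h1.eq]
      _ = s ^ n * (u * q * u⁻¹ * q⁻¹) * (s ^ n)⁻¹ := by group
      _ = (u * q * u⁻¹ * q⁻¹) * (s ^ n * (s ^ n)⁻¹) := by rw [h.z_comm (h.comm u hu q hq) (s ^ n)]; group
      _ = _ := by group

/-- the full product is fixed modulo `⟨z⟩` -/
theorem X3.cprod_fix (h : X3 Q z) {s q : H} {m : ℕ} (hs : s ^ m = 1) (hq : q ∈ Q) :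
    s * cprod s q m * s⁻¹ * (cprod s q m)⁻¹ ∈ zpowers z := by
  have hn : (zpowers z).Normal := ⟨fun w hw g => by rw [h.z_comm hw g]; simpa using hw⟩
  let π : H →* H ⧸ zpowers z := QuotientGroup.mk' _
  have hk : ∀ x, π x = 1 ↔ x ∈ zpowers z := fun x => QuotientGroup.eq_one_iff x
  have hab : ∀ x ∈ Q, ∀ y ∈ Q, π x * π y = π y * π x := by
    intro x hx y hy
    have h1 := (hk _).2 (h.comm x hx y hy)
    rw [map_mul, map_mul, map_mul, map_inv, map_inv] at h1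
    exact mul_inv_eq_iff_eq_mul.1 (mul_inv_eq_one.1 h1)
  -- `s (cprod n) s⁻¹ = q⁻¹ cprod (n+1)` modulo `z`
  have key : ∀ n, π (s * cprod s q n * s⁻¹) = π (q⁻¹ * cprod s q (n + 1)) := by
    intro n
    induction n with
    | zero =>
      have e1 : s * cprod s q 0 * s⁻¹ = 1 := by simp [cprod]
      have e2 : q⁻¹ * cprod s q (0 + 1) = 1 := by simp [cprod]
      rw [e1, e2]
    | succ n ih =>
      have e1 : s * cprod s q (n + 1) * s⁻¹ = (s * cprod s q n * s⁻¹) * (s ^ (n + 1) * q * (s ^ (n + 1))⁻¹) := by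
        rw [cprod, pow_succ']; group
      have e2 : q⁻¹ * cprod s q (n + 1 + 1) = (q⁻¹ * cprod s q (n + 1)) * (s ^ (n + 1) * q * (s ^ (n + 1))⁻¹) := by
        rw [cprod]; group
      rw [e1, e2, map_mul, ih, ← map_mul]
  rw [← hk, map_mul, map_inv, mul_inv_eq_one, key]
  have e : cprod s q (m + 1) = cprod s q m * q := by
    rw [cprod, hs]; simp
  rw [e, map_mul, map_mul, hab _ (h.cprod_mem hq m) _ hq, ← mul_assoc, map_inv, inv_mul_cancel, one_mul]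

/-- **(b)** -/
theorem X3.hom_ne (h : X3 Q z) {s u : H} {m : ℕ} (hs : s ^ m = 1) (hm : m.Coprime 3) (hc : s * u = u * s)
    (hu : u ∈ Q) (huz : u ∉ zpowers z) :
    ∃ q ∈ Q, s * q = q * s ∧ (s * u) * q * (s * u)⁻¹ * q⁻¹ ∈ zpowers z ∧ (s * u) * q * (s * u)⁻¹ * q⁻¹ ≠ 1 := by
  obtain ⟨q0, hq0, hne⟩ : ∃ q0 ∈ Q, u * q0 ≠ q0 * u := by
    by_contra hn
    push Not at hn
    exact huz (h.nd u hu hn)
  set q := cprod s q0 m with hq
  have hqQ : q ∈ Q := h.cprod_mem hq0 m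
  have hsq : s * q = q * s := h.fix_exact hs hm (h.cprod_fix hs hq0)
  have hk : u * q * u⁻¹ * q⁻¹ = (u * q0 * u⁻¹ * q0⁻¹) ^ m := h.cprod_kap hu hq0 hc m
  have hw : u * q * u⁻¹ * q⁻¹ ∈ zpowers z := h.comm u hu q hqQ
  have hsq' : s⁻¹ * q⁻¹ = q⁻¹ * s⁻¹ := by
    rw [← mul_inv_rev, ← mul_inv_rev, hsq]
  have e : (s * u) * q * (s * u)⁻¹ * q⁻¹ = u * q * u⁻¹ * q⁻¹ := by
    calc (s * u) * q * (s * u)⁻¹ * q⁻¹ = s * (u * q * u⁻¹ * q⁻¹) * (q * (s⁻¹ * q⁻¹)) := by group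
      _ = (u * q * u⁻¹ * q⁻¹) * s * (q * (q⁻¹ * s⁻¹)) := by rw [h.z_comm hw s, hsq']
      _ = _ := by group
  refine ⟨q, hqQ, hsq, by rw [e]; exact hw, ?_⟩
  rw [e, hk]
  intro h1
  have h2 := eq_one_of_coprime (h.z_pow (h.comm u hu q0 hq0)) hm h1
  apply hne
  exact mul_inv_eq_iff_eq_mul.1 (mul_inv_eq_one.1 h2)

/-! ### `V = Q / ⟨z⟩` -/

/-- a packaging of `V = Q/⟨z⟩` -/
structure VD (Q : Subgroup H) (z : H) : Type (v + 1) where
  V : Type v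
  [acg : AddCommGroup V]
  [mod : Module (ZMod 3) V]
  cls : Q → V
  surj : Function.Surjective cls
  cls_mul : ∀ x y, cls (x * y) = cls x + cls y
  cls_eq : ∀ x y : Q, cls x = cls y ↔ (x : H) * (y : H)⁻¹ ∈ zpowers z

theorem X3.exists_vd (h : X3 Q z) : Nonempty (VD Q z) := by
  classical
  have hn := h.normal
  let N : Subgroup Q := (zpowers z).subgroupOf Q
  have hN : ∀ x : Q, x ∈ N ↔ (x : H) ∈ zpowers z := fun x => Subgroup.mem_subgroupOf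
  have hNn : N.Normal := by
    refine ⟨fun w hw g => ?_⟩
    rw [hN] at hw ⊢
    have e : ((g * w * g⁻¹ : Q) : H) = w := by
      show (g : H) * w * (g : H)⁻¹ = w
      rw [h.z_comm hw]; group
    rw [e]
    exact hw
  let _ : CommGroup (Q ⧸ N) := { (inferInstance : Group (Q ⧸ N)) with
    mul_comm := by
      intro u v
      induction u using QuotientGroup.induction_on with | _ x => ?_
      induction v using QuotientGroup.induction_on with | _ y => ?_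
      rw [← QuotientGroup.mk_mul, ← QuotientGroup.mk_mul, QuotientGroup.eq, hN]
      have h1 := h.comm _ (Q.inv_mem y.2) _ (Q.inv_mem x.2)
      have e : (((x * y)⁻¹ * (y * x) : Q) : H) = (y : H)⁻¹ * (x : H)⁻¹ * ((y : H)⁻¹)⁻¹ * ((x : H)⁻¹)⁻¹ := by
        show ((x : H) * y)⁻¹ * (y * x) = _
        group
      rw [e]
      exact h1 }
  let V := Additive (Q ⧸ N)
  let mk : Q → V := fun x => Additive.ofMul (QuotientGroup.mk x)
  have hsurj : Function.Surjective mk := by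
    intro v
    obtain ⟨x, hx⟩ := QuotientGroup.mk_surjective (Additive.toMul v)
    exact ⟨x, by show Additive.ofMul _ = v; rw [hx]; rfl⟩
  have mk_mul : ∀ x y, mk (x * y) = mk x + mk y := fun x y => rfl
  have mk_eq : ∀ x y : Q, mk x = mk y ↔ (x : H) * (y : H)⁻¹ ∈ zpowers z := by
    intro x y
    have : mk x = mk y ↔ (QuotientGroup.mk x : Q ⧸ N) = QuotientGroup.mk y := Iff.rfl
    rw [this, QuotientGroup.eq, hN]
    have e : ((x⁻¹ * y : Q) : H) = (x : H)⁻¹ * y := rfl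
    rw [e]
    constructor
    · intro h1
      have h2 := (zpowers z).inv_mem h1
      have e2 : (x : H) * (y : H)⁻¹ = y * ((x : H)⁻¹ * y)⁻¹ * (y : H)⁻¹ := by group
      rw [e2, h.z_comm h2]
      simpa using h2
    · intro h1
      have h2 := (zpowers z).inv_mem h1
      have e2 : (x : H)⁻¹ * y = (x : H)⁻¹ * ((x : H) * (y : H)⁻¹)⁻¹ * x := by group
      rw [e2, h.z_comm h2]
      simpa using h2
  have three : ∀ v : V, 3 • v = 0 := by
    intro v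
    obtain ⟨x, rfl⟩ := hsurj v
    have h1 : (3 : ℕ) • mk x = mk (x ^ 3) := by
      rw [pow_succ, pow_two, mk_mul, mk_mul, succ_nsmul, two_nsmul]
    have h2 : (0 : V) = mk 1 := rfl
    rw [h1, h2, mk_eq]
    have e : ((x ^ 3 : Q) : H) * ((1 : Q) : H)⁻¹ = (x : H) ^ 3 := by
      show (x : H) ^ 3 * (1 : H)⁻¹ = _
      rw [inv_one, mul_one]
    rw [e]
    exact h.pow x x.2
  let _ : Module (ZMod 3) V := AddCommGroup.zmodModule three
  exact ⟨{ V := V, cls := mk, surj := hsurj, cls_mul := mk_mul, cls_eq := mk_eq }⟩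

theorem X3.exists_lin (h : X3 Q z) (D : VD Q z) (g : H) :
    let _ := D.acg
    let _ := D.mod
    ∃ L : D.V →ₗ[ZMod 3] D.V, ∀ x y : Q, (y : H) = g * x * g⁻¹ → L (D.cls x) = D.cls y := by
  intro _ _
  classical
  let cj : Q → Q := fun x => ⟨g * x * g⁻¹, h.normal.conj_mem x x.2 g⟩
  have hcj : ∀ x y : Q, D.cls x = D.cls y → D.cls (cj x) = D.cls (cj y) := by
    intro x y hxy
    rw [D.cls_eq] at hxy ⊢
    have e : ((cj x : Q) : H) * ((cj y : Q) : H)⁻¹ = g * ((x : H) * (y : H)⁻¹) * g⁻¹ := by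
      show g * x * g⁻¹ * (g * y * g⁻¹)⁻¹ = _
      group
    rw [e, h.z_comm hxy]
    simpa using hxy
  let f : D.V → D.V := fun v => D.cls (cj (Function.surjInv D.surj v))
  have hf : ∀ x : Q, f (D.cls x) = D.cls (cj x) := fun x => hcj _ _ (Function.surjInv_eq D.surj _)
  let F : D.V →+ D.V :=
    { toFun := f
      map_zero' := by
        have h0 : D.cls 1 = 0 := by
          have h1 := D.cls_mul 1 1
          rw [mul_one] at h1
          exact left_eq_add.1 h1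
        rw [← h0, hf]
        congr 1
        exact Subtype.ext (by show g * (1 : H) * g⁻¹ = 1; group)
      map_add' := by
        intro u w
        obtain ⟨x, rfl⟩ := D.surj u
        obtain ⟨y, rfl⟩ := D.surj w
        rw [← D.cls_mul, hf, hf, hf, ← D.cls_mul]
        congr 1
        exact Subtype.ext (by show g * ((x : H) * y) * g⁻¹ = g * x * g⁻¹ * (g * y * g⁻¹); group) }
  refine ⟨F.toZModLinearMap 3, ?_⟩
  intro x y hy
  show f (D.cls x) = D.cls y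
  rw [hf]
  congr 1
  exact Subtype.ext hy.symm

/-- **A × B for `Q / ⟨z⟩`** -/
theorem X3.axb (h : X3 Q z) {s u : H} {m k : ℕ} (hs : s ^ m = 1) (hm : m.Coprime 3) (hu : u ^ 3 ^ k = 1)
    (hc : s * u = u * s) (hF : ∀ x ∈ Q, u * x * u⁻¹ * x⁻¹ ∈ zpowers z → s * x * s⁻¹ * x⁻¹ ∈ zpowers z) :
    ∀ x ∈ Q, s * x * s⁻¹ * x⁻¹ ∈ zpowers z := by
  obtain ⟨D⟩ := h.exists_vd
  let _ := D.acg
  let _ := D.mod
  have : Fact (Nat.Prime 3) := ⟨Nat.prime_three⟩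
  obtain ⟨S, hS⟩ := h.exists_lin D s
  obtain ⟨U, hU⟩ := h.exists_lin D u
  have hpow : ∀ (g : H) (L : D.V →ₗ[ZMod 3] D.V), (∀ x y : Q, (y : H) = g * x * g⁻¹ → L (D.cls x) = D.cls y) →
      ∀ (n : ℕ) (x y : Q), (y : H) = g ^ n * x * (g ^ n)⁻¹ → (L ^ n) (D.cls x) = D.cls y := by
    intro g L hL n
    induction n with
    | zero =>
      intro x y hy
      have e : y = x := Subtype.ext (by rw [hy]; simp)
      rw [e, pow_zero]; rfl
    | succ n ih =>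
      intro x y hy
      have h1 : g * x * g⁻¹ ∈ Q := h.normal.conj_mem x x.2 g
      rw [pow_succ]
      show (L ^ n) (L (D.cls x)) = _
      rw [hL x ⟨_, h1⟩ rfl]
      apply ih
      rw [hy, pow_succ]
      show _ = g ^ n * (g * x * g⁻¹) * (g ^ n)⁻¹
      group
  have hone : ∀ (g : H) (L : D.V →ₗ[ZMod 3] D.V), (∀ x y : Q, (y : H) = g * x * g⁻¹ → L (D.cls x) = D.cls y) →
      ∀ n : ℕ, g ^ n = 1 → L ^ n = 1 := by
    intro g L hL n hn
    ext w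
    obtain ⟨x, rfl⟩ := D.surj w
    rw [hpow g L hL n x x (by rw [hn]; simp)]
    rfl
  have hfix : ∀ (g : H) (L : D.V →ₗ[ZMod 3] D.V), (∀ x y : Q, (y : H) = g * x * g⁻¹ → L (D.cls x) = D.cls y) →
      ∀ x : Q, L (D.cls x) = D.cls x ↔ g * x * g⁻¹ * (x : H)⁻¹ ∈ zpowers z := by
    intro g L hL x
    rw [hL x ⟨_, h.normal.conj_mem x x.2 g⟩ rfl, D.cls_eq]
  have h1 := Cfsg.Agent.H98.Pw.axb (p := 3) (s := S) (u := U) (k := k) (m := m) (hone s S hS m hs) hm (hone u U hU _ hu)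
    (fun w => by
      obtain ⟨x, rfl⟩ := D.surj w
      have m1 : u * x * u⁻¹ ∈ Q := h.normal.conj_mem x x.2 u
      have m2 : s * x * s⁻¹ ∈ Q := h.normal.conj_mem x x.2 s
      have m3 : s * (u * x * u⁻¹) * s⁻¹ ∈ Q := h.normal.conj_mem _ m1 s
      rw [hU x ⟨_, m1⟩ rfl, hS x ⟨_, m2⟩ rfl, hS ⟨_, m1⟩ ⟨_, m3⟩ rfl]
      refine (hU ⟨_, m2⟩ ⟨_, m3⟩ ?_).symm
      show s * (u * x * u⁻¹) * s⁻¹ = u * (s * x * s⁻¹) * u⁻¹
      calc s * (u * x * u⁻¹) * s⁻¹ = (s * u) * x * (s * u)⁻¹ := by group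
        _ = (u * s) * x * (u * s)⁻¹ := by rw [hc]
        _ = _ := by group)
    (fun w hw => by
      obtain ⟨x, rfl⟩ := D.surj w
      exact (hfix s S hS x).2 (hF x x.2 ((hfix u U hU x).1 hw)))
  intro x hx
  exact (hfix s S hS ⟨x, hx⟩).1 (h1 _)

/-- the elements of `Q` fixed by `g` modulo `⟨z⟩` -/
def X3.Fx (h : X3 Q z) (g : H) : Subgroup H where
  carrier := {x | x ∈ Q ∧ g * x * g⁻¹ * x⁻¹ ∈ zpowers z}
  one_mem' := ⟨Q.one_mem, by simp⟩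
  mul_mem' := by
    rintro x y ⟨hx, hx'⟩ ⟨hy, hy'⟩
    refine ⟨Q.mul_mem hx hy, ?_⟩
    have e : g * (x * y) * g⁻¹ * (x * y)⁻¹ = (g * x * g⁻¹ * x⁻¹) * (x * (g * y * g⁻¹ * y⁻¹) * x⁻¹) := by group
    rw [e, h.z_comm hy' x]
    simpa using (zpowers z).mul_mem hx' hy'
  inv_mem' := by
    rintro x ⟨hx, hx'⟩
    refine ⟨Q.inv_mem hx, ?_⟩
    have h1 := (zpowers z).inv_mem hx'
    have e : g * x⁻¹ * g⁻¹ * x⁻¹⁻¹ = x⁻¹ * (g * x * g⁻¹ * x⁻¹)⁻¹ * x := by group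
    rw [e, h.z_comm h1]
    simpa using h1

theorem X3.mem_Fx (h : X3 Q z) {g x : H} : x ∈ h.Fx g ↔ x ∈ Q ∧ g * x * g⁻¹ * x⁻¹ ∈ zpowers z := Iff.rfl

theorem X3.card_Fx (h : X3 Q z) (g : H) :
    Nat.card (h.Fx g) = Nat.card {x : Q // g * x * g⁻¹ * (x : H)⁻¹ ∈ zpowers z} :=
  Nat.card_congr
    { toFun := fun x => ⟨⟨x, x.2.1⟩, x.2.2⟩
      invFun := fun x => ⟨x, x.1.2, x.2⟩
      left_inv := fun _ => rfl
      right_inv := fun _ => rfl }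

theorem X3.Fx_pow (h : X3 Q z) {g : H} (n : ℕ) : h.Fx g ≤ h.Fx (g ^ n) := by
  rintro x ⟨hx, hx'⟩
  refine ⟨hx, ?_⟩
  have h1 : g * x * g⁻¹ = (g * x * g⁻¹ * x⁻¹) * x := by group
  rw [h.conj_pow hx' h1 n]
  simpa using (zpowers z).pow_mem hx' n

/-- every element of `Q` has order dividing 9 -/
theorem X3.isPGroup (h : X3 Q z) : IsPGroup 3 Q := by
  intro x
  refine ⟨2, ?_⟩
  apply Subtype.ext
  show (x : H) ^ 3 ^ 2 = 1
  rw [pow_two, pow_mul]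
  exact h.z_pow (h.pow x x.2)

/-- powers of commuting elements of coprime orders -/
theorem exists_pows {s u : H} {m n : ℕ} (hs : s ^ m = 1) (hu : u ^ n = 1) (hmn : m.Coprime n) (hc : s * u = u * s) :
    (∃ i : ℕ, (s * u) ^ i = s) ∧ ∃ j : ℕ, (s * u) ^ j = u := by
  have hc' : Commute s u := hc
  constructor
  · obtain ⟨t, ht1, ht2⟩ := Nat.chineseRemainder hmn 1 0
    refine ⟨t, ?_⟩
    rw [hc'.mul_pow]
    have h1 : s ^ t = s ^ 1 := pow_eq_pow_iff_modEq.2 (ht1.of_dvd (orderOf_dvd_of_pow_eq_one hs))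
    have h2 : u ^ t = 1 := by
      obtain ⟨c, rfl⟩ := (Nat.modEq_zero_iff_dvd).1 ht2
      rw [pow_mul, hu, one_pow]
    rw [h1, h2, pow_one, mul_one]
  · obtain ⟨t, ht1, ht2⟩ := Nat.chineseRemainder hmn 0 1
    refine ⟨t, ?_⟩
    rw [hc'.mul_pow]
    have h1 : u ^ t = u ^ 1 := pow_eq_pow_iff_modEq.2 (ht2.of_dvd (orderOf_dvd_of_pow_eq_one hu))
    have h2 : s ^ t = 1 := by
      obtain ⟨c, rfl⟩ := (Nat.modEq_zero_iff_dvd).1 ht1
      rw [pow_mul, hs, one_pow]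
    rw [h1, h2, pow_one, one_mul]

/-- **(a)** -/
theorem X3.fix_lt (h : X3 Q z) [Finite Q] {s u : H} {m k : ℕ} (hs : s ^ m = 1) (hm : m.Coprime 3) (hu : u ^ 3 ^ k = 1)
    (hc : s * u = u * s) (hn : ∃ x ∈ Q, s * x * s⁻¹ * x⁻¹ ∉ zpowers z) :
    3 * Nat.card (h.Fx (s * u)) ≤ Nat.card (h.Fx u) := by
  obtain ⟨⟨i, hi⟩, ⟨j, hj⟩⟩ := exists_pows hs hu (hm.pow_right k) hc
  have hfin : Finite (h.Fx u) := Finite.of_injective (fun x : h.Fx u => (⟨x, x.2.1⟩ : Q))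
    (fun x y hxy => Subtype.ext (congrArg (fun w : Q => (w : H)) hxy))
  have hle : h.Fx (s * u) ≤ h.Fx u := by
    have h1 := h.Fx_pow (g := s * u) j
    rwa [hj] at h1
  have hle' : h.Fx (s * u) ≤ h.Fx s := by
    have h1 := h.Fx_pow (g := s * u) i
    rwa [hi] at h1
  have hlt : h.Fx (s * u) ≠ h.Fx u := by
    intro he
    obtain ⟨x, hx, hx'⟩ := hn
    refine hx' (h.axb hs hm hu hc ?_ x hx)
    intro y hy hy'
    have h2 : y ∈ h.Fx (s * u) := by rw [he]; exact ⟨hy, hy'⟩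
    exact (hle' h2).2
  -- Lagrange in a 3-group
  have h1 := Subgroup.relIndex_mul_relIndex ⊥ (h.Fx (s * u)) (h.Fx u) bot_le hle
  rw [Subgroup.relIndex_bot_left, Subgroup.relIndex_bot_left, mul_comm] at h1
  have hp : IsPGroup 3 (h.Fx u) := by
    intro x
    obtain ⟨n, hn⟩ := h.isPGroup ⟨x, x.2.1⟩
    refine ⟨n, Subtype.ext ?_⟩
    exact congrArg (fun y : Q => (y : H)) hn
  have : Fact (Nat.Prime 3) := ⟨Nat.prime_three⟩
  have h2 : ∃ n, (h.Fx (s * u)).relIndex (h.Fx u) = 3 ^ n := by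
    obtain ⟨n, hn⟩ := IsPGroup.iff_card.1 hp
    have h3 : (h.Fx (s * u)).relIndex (h.Fx u) ∣ 3 ^ n := by
      rw [← hn]
      exact Dvd.intro _ h1
    obtain ⟨i, -, hi⟩ := (Nat.dvd_prime_pow Nat.prime_three).1 h3
    exact ⟨i, hi⟩
  obtain ⟨n, hn⟩ := h2
  have h3 : n ≠ 0 := by
    rintro rfl
    rw [pow_zero, Subgroup.relIndex_eq_one] at hn
    exact hlt (le_antisymm hle hn)
  have h4 : 3 ≤ (h.Fx (s * u)).relIndex (h.Fx u) := by
    rw [hn]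
    calc 3 = 3 ^ 1 := by norm_num
      _ ≤ 3 ^ n := Nat.pow_le_pow_right (by norm_num) (by omega)
  rw [← h1]
  exact Nat.mul_le_mul_right _ h4

/-- **Mixed elements.**  `t` acts as `-1` on `Q / ⟨z⟩`.  `CEN` is the case `u ∈ ⟨z⟩`. -/
theorem X3.mixed' (h : X3 Q z) [Finite Q] {P : H → Prop} {t : H}
    (STEP : ∀ g, g ∉ Q → t⁻¹ * g ∉ Q → ((∃ q ∈ Q, g * q * g⁻¹ * q⁻¹ ∈ zpowers z ∧ g * q * g⁻¹ * q⁻¹ ≠ 1) ∨
      Nat.card (h.Fx g) ≤ 3 ^ 9) → P g)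
    (F9 : ∀ (u : H) (k : ℕ), u ^ 3 ^ k = 1 → u ∉ Q → Nat.card (h.Fx u) ≤ 3 ^ 10)
    (INV : ∀ x ∈ Q, t * x * t⁻¹ * x⁻¹ ∈ zpowers z → x ∈ zpowers z)
    (FAITH : ∀ g, (∀ x ∈ Q, g * x * g⁻¹ * x⁻¹ ∈ zpowers z) → g ∈ Q) (T2 : t * t ∈ Q)
    {s u : H} {m k : ℕ} (CEN : u ∈ zpowers z → P (s * u)) (hs : s ^ m = 1) (hm : m.Coprime 3) (hu : u ^ 3 ^ k = 1)
    (hc : s * u = u * s) (hs1 : s ≠ 1) : P (s * u) := by
  obtain ⟨⟨i, hi⟩, ⟨j, hj⟩⟩ := exists_pows hs hu (hm.pow_right k) hc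
  have hN := h.normal
  have hsQ : s ∉ Q := by
    intro hQ
    apply hs1
    obtain ⟨n, hn⟩ := h.isPGroup ⟨s, hQ⟩
    have h1 : s ^ 3 ^ n = 1 := congrArg (fun w : Q => (w : H)) hn
    rw [← orderOf_eq_one_iff]
    have h2 := orderOf_dvd_of_pow_eq_one h1
    have h3 := orderOf_dvd_of_pow_eq_one hs
    exact Nat.dvd_one.1 ((hm.pow_right n) ▸ Nat.dvd_gcd h3 h2)
  by_cases huQ : u ∈ Q
  · by_cases huz : u ∈ zpowers z
    · exact CEN huz
    · have hsu : s * u ∉ Q := fun hQ => hsQ ((Subgroup.mul_mem_cancel_right Q huQ).1 hQ)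
      refine STEP _ hsu ?_ (Or.inl ?_)
      · intro hQ
        apply huz
        apply INV u huQ
        set q := t⁻¹ * s with hq
        have hqQ : q ∈ Q := by
          have h1 : t⁻¹ * (s * u) = q * u := by rw [hq]; group
          rw [h1] at hQ
          exact (Subgroup.mul_mem_cancel_right Q huQ).1 hQ
        have hst : t = s * q⁻¹ := by rw [hq]; group
        have h2 := h.comm _ (Q.inv_mem hqQ) u huQ
        have h3 : s * u * s⁻¹ = u := by rw [hc]; group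
        have e : t * u * t⁻¹ * u⁻¹ = s * (q⁻¹ * u * q⁻¹⁻¹ * u⁻¹) * (u * s⁻¹) * u⁻¹ := by rw [hst]; group
        rw [e, h.z_comm h2 s]
        have e2 : q⁻¹ * u * q⁻¹⁻¹ * u⁻¹ * s * (u * s⁻¹) * u⁻¹ = (q⁻¹ * u * q⁻¹⁻¹ * u⁻¹) * (s * u * s⁻¹ * u⁻¹) := by group
        rw [e2, h3, mul_inv_cancel, mul_one]
        exact h2
      · obtain ⟨q, hq, -, h1, h2⟩ := h.hom_ne hs hm hc huQ huz
        exact ⟨q, hq, h1, h2⟩
  · have hpw : ∀ g ∈ Q, ∀ n : ℕ, g ^ n ∈ Q := fun g hg n => Q.pow_mem hg n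
    have hsu : s * u ∉ Q := fun hQ => huQ (by rw [← hj]; exact hpw _ hQ j)
    refine STEP _ hsu ?_ (Or.inr ?_)
    · intro hQ
      -- `(s u)² ∈ Q`, so `u² ∈ Q`
      have h2 : s * u * (s * u) ∈ Q := by
        have e : s * u * (s * u) = t * (t⁻¹ * (s * u)) * t⁻¹ * (t * t) * (t⁻¹ * (s * u)) := by group
        rw [e]
        exact Q.mul_mem (Q.mul_mem (hN.conj_mem _ hQ t) T2) hQ
      have h3 : u ^ 2 ∈ Q := by
        have e : u ^ 2 = (s * u * (s * u)) ^ j := by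
          rw [← pow_two, ← pow_mul, mul_comm, pow_mul, hj]
        rw [e]
        exact hpw _ h2 j
      apply huQ
      have h4 : Odd (3 ^ k) := Odd.pow (by decide)
      obtain ⟨c, hc'⟩ := h4
      have e : u = (u ^ 2) ^ (c + 1) := by
        rw [← pow_mul]
        have : 2 * (c + 1) = 3 ^ k + 1 := by omega
        rw [this, pow_succ, hu, one_mul]
      rw [e]
      exact hpw _ h3 _
    · have hn : ∃ x ∈ Q, s * x * s⁻¹ * x⁻¹ ∉ zpowers z := by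
        by_contra hn
        push Not at hn
        exact hsQ (FAITH s hn)
      have h1 := h.fix_lt hs hm hu hc hn
      have h2 := F9 u k hu huQ
      have h3 : 3 * Nat.card (h.Fx (s * u)) ≤ 3 * 3 ^ 9 := h1.trans (h2.trans (by norm_num))
      omega

/-- the reduction, `CEN` for all `s`, `w` -/
theorem X3.mixed (h : X3 Q z) [Finite Q] {P : H → Prop} {t : H}
    (STEP : ∀ g, g ∉ Q → t⁻¹ * g ∉ Q → ((∃ q ∈ Q, g * q * g⁻¹ * q⁻¹ ∈ zpowers z ∧ g * q * g⁻¹ * q⁻¹ ≠ 1) ∨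
      Nat.card (h.Fx g) ≤ 3 ^ 9) → P g)
    (F9 : ∀ (u : H) (k : ℕ), u ^ 3 ^ k = 1 → u ∉ Q → Nat.card (h.Fx u) ≤ 3 ^ 10)
    (INV : ∀ x ∈ Q, t * x * t⁻¹ * x⁻¹ ∈ zpowers z → x ∈ zpowers z)
    (FAITH : ∀ g, (∀ x ∈ Q, g * x * g⁻¹ * x⁻¹ ∈ zpowers z) → g ∈ Q) (T2 : t * t ∈ Q)
    (CEN : ∀ (s w : H) (m : ℕ), s ^ m = 1 → m.Coprime 3 → s ≠ 1 → w ∈ zpowers z → w ≠ 1 → P (s * w))
    {s u : H} {m k : ℕ} (hs : s ^ m = 1) (hm : m.Coprime 3) (hu : u ^ 3 ^ k = 1) (hc : s * u = u * s)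
    (hs1 : s ≠ 1) (hu1 : u ≠ 1) : P (s * u) :=
  h.mixed' STEP F9 INV FAITH T2 (fun huz => CEN s u m hs hm hs1 huz hu1) hs hm hu hc hs1

end Cfsg.Agent.H98.Pw
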