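import Cfsg.Agent.H98.Pw.Mixed
import Cfsg.Agent.H323.Pw.Odd

/-!
# `X3.mixed` in the notation of helper323 (`XS 3`, `FixX`) (helper98)
-/

set_option autoImplicit false

namespace Cfsg.Agent.H98.Pw

open Subgroup
open Cfsg.Agent.H323.Pw

universe v

variable {H : Type v} [Group H] {Q : Subgroup H} {z : H}

theorem x3 (h : XS 3 Q z) : X3 Q z := ⟨h.normal, h.mem, h.ord, h.central, h.comm, h.pow, h.nd⟩

theorem card_fixX (h : XS 3 Q z) (g : H) : Nat.card (FixX Q z g) = Nat.card ((x3 h).Fx g) :=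
  ((x3 h).card_Fx g).symm

/-- **Mixed elements `s u`** (`s` of order prime to 3, `u` a 3-element, both nontrivial).  `t` acts as `-1` on `Q / ⟨z⟩`;
`CEN` is the case `u ∈ ⟨z⟩`. -/
theorem mixed (h : XS 3 Q z) [Finite Q] {P : H → Prop} {t : H}
    (STEP : ∀ g, g ∉ Q → t⁻¹ * g ∉ Q → ((∃ q ∈ Q, g * q * g⁻¹ * q⁻¹ ∈ zpowers z ∧ g * q * g⁻¹ * q⁻¹ ≠ 1) ∨
      Nat.card (FixX Q z g) ≤ 3 ^ 9) → P g)
    (F9 : ∀ (u : H) (k : ℕ), u ^ 3 ^ k = 1 → u ∉ Q → Nat.card (FixX Q z u) ≤ 3 ^ 10)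
    (INV : ∀ x ∈ Q, t * x * t⁻¹ * x⁻¹ ∈ zpowers z → x ∈ zpowers z)
    (FAITH : ∀ g, (∀ x ∈ Q, g * x * g⁻¹ * x⁻¹ ∈ zpowers z) → g ∈ Q) (T2 : t * t ∈ Q)
    (CEN : ∀ (s w : H) (m : ℕ), s ^ m = 1 → m.Coprime 3 → s ≠ 1 → w ∈ zpowers z → w ≠ 1 → P (s * w))
    {s u : H} {m k : ℕ} (hs : s ^ m = 1) (hm : m.Coprime 3) (hu : u ^ 3 ^ k = 1) (hc : s * u = u * s)
    (hs1 : s ≠ 1) (hu1 : u ≠ 1) : P (s * u) :=
  (x3 h).mixed (fun g h1 h2 h3 => STEP g h1 h2 (by rwa [card_fixX h])) (fun u k h1 h2 => by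
    rw [← card_fixX h]; exact F9 u k h1 h2) INV FAITH T2 CEN hs hm hu hc hs1 hu1

/-- the same with `CEN` for the given elements only -/
theorem mixed' (h : XS 3 Q z) [Finite Q] {P : H → Prop} {t : H}
    (STEP : ∀ g, g ∉ Q → t⁻¹ * g ∉ Q → ((∃ q ∈ Q, g * q * g⁻¹ * q⁻¹ ∈ zpowers z ∧ g * q * g⁻¹ * q⁻¹ ≠ 1) ∨
      Nat.card (FixX Q z g) ≤ 3 ^ 9) → P g)
    (F9 : ∀ (u : H) (k : ℕ), u ^ 3 ^ k = 1 → u ∉ Q → Nat.card (FixX Q z u) ≤ 3 ^ 10)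
    (INV : ∀ x ∈ Q, t * x * t⁻¹ * x⁻¹ ∈ zpowers z → x ∈ zpowers z)
    (FAITH : ∀ g, (∀ x ∈ Q, g * x * g⁻¹ * x⁻¹ ∈ zpowers z) → g ∈ Q) (T2 : t * t ∈ Q)
    {s u : H} {m k : ℕ} (CEN : u ∈ zpowers z → P (s * u)) (hs : s ^ m = 1) (hm : m.Coprime 3) (hu : u ^ 3 ^ k = 1)
    (hc : s * u = u * s) (hs1 : s ≠ 1) : P (s * u) :=
  (x3 h).mixed' (fun g h1 h2 h3 => STEP g h1 h2 (by rwa [card_fixX h])) (fun u k h1 h2 => by
    rw [← card_fixX h]; exact F9 u k h1 h2) INV FAITH T2 CEN hs hm hu hc hs1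

/-- the hom case of `STEP` in the form of `XS.prod_conj` -/
theorem exists_conj_of_hom (h : XS 3 Q z) {g q : H} (h1 : g * q * g⁻¹ * q⁻¹ ∈ zpowers z)
    (h2 : g * q * g⁻¹ * q⁻¹ ≠ 1) (hq : q ∈ Q) : ∃ y ∈ Q, y * g * y⁻¹ = g * z := by
  have hX := x3 h
  set w := g * q * g⁻¹ * q⁻¹ with hw
  -- `q⁻¹ g q = w' g`
  have h3 : ∀ n : ℕ, (q ^ n)⁻¹ * g * q ^ n = w ^ n * g := by
    intro n
    have hgq : g * q * g⁻¹ = w * q := by rw [hw]; group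
    induction n with
    | zero => simp
    | succ n ih =>
      have e0 : q⁻¹ * g * q = w * g := by
        calc q⁻¹ * g * q = q⁻¹ * (g * q * g⁻¹) * g := by group
          _ = (q⁻¹ * w) * q * g := by rw [hgq]; group
          _ = w * g := by rw [hX.z_comm h1]; group
      calc (q ^ (n + 1))⁻¹ * g * q ^ (n + 1) = q⁻¹ * ((q ^ n)⁻¹ * g * q ^ n) * q := by rw [pow_succ]; group
        _ = (q⁻¹ * w ^ n) * g * q := by rw [ih]; group
        _ = w ^ n * (q⁻¹ * g * q) := by rw [hX.z_comm (Subgroup.pow_mem _ h1 n)]; group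
        _ = w ^ (n + 1) * g := by rw [e0, pow_succ]; group
  -- `z` is a power of `w`
  have h4 : z ∈ zpowers w := by
    have h5 : zpowers w = zpowers z := by
      have hp : Nat.Prime (Nat.card (zpowers z)) := by rw [Nat.card_zpowers, h.ord]; exact Nat.prime_three
      have hfz : Finite (zpowers z) := Nat.finite_of_card_ne_zero hp.ne_zero
      have hle : zpowers w ≤ zpowers z := by rw [zpowers_le]; exact h1
      refine Subgroup.eq_of_le_of_card_ge hle ?_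
      have hd := Subgroup.card_dvd_of_le hle
      rcases (Nat.dvd_prime hp).1 hd with h6 | h6
      · exfalso
        apply h2
        rw [Subgroup.card_eq_one, zpowers_eq_bot] at h6
        exact h6
      · exact h6.ge
    rw [h5]; exact mem_zpowers z
  have hw3 : w ^ 3 = 1 := hX.z_pow h1
  obtain ⟨n, hn⟩ : ∃ n : ℕ, w ^ n = z := by
    have hfo : IsOfFinOrder w := isOfFinOrder_iff_pow_eq_one.2 ⟨3, by norm_num, hw3⟩
    exact (hfo.mem_powers_iff_mem_zpowers.2 h4)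
  refine ⟨(q ^ n)⁻¹, Q.inv_mem (Q.pow_mem hq n), ?_⟩
  rw [inv_inv, h3, hn]
  exact (h.central g).symm

end Cfsg.Agent.H98.Pw
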